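import Groth.Agent.Etbc.H185.BcCore3
import Groth.Agent.Etrest.DEtPush
import Groth.Prelude.Def_EtBCD

/-!
# The derived base change morphism `EtBC.bcMap` is the transformation `Etrest.DEtPush.bcEt`

For a commutative square `w : g' ≫ f = f' ≫ g` and ANY adjunction `adj : g⁻¹ ⊣ Rg_*`:
* `bcMap_eq`: `EtBC.bcMap f g f' g' w adj K` is `(bcEt w).app K` up to canonical isomorphisms;
* `isIso_bcMap_iff`, `bcMap_iff P` (any isomorphism invariant property `P` of morphisms),
  `homology_isIso_iff`, `homology_mono_iff`, `homology_epi_iff`.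
* `isIso_bcMap_of_acyc`: `EtBC.bcMap` is an isomorphism at `K ≅ Q T`, `T` a bounded below complex of
  `f_*`-acyclic sheaves with `g'⁻¹ T` `f'_*`-acyclic and `baseChange0` an isomorphism on the terms.
-/

set_option autoImplicit false
universe u

open CategoryTheory CategoryTheory.Limits Opposite AlgebraicGeometry

attribute [local instance] HasDerivedCategory.standard

noncomputable section
namespace Groth.Agent.Etbc.H185.BcMap

open Groth.Agent.Etrest Groth.Agent.Etrest.RDer2 Groth.Agent.Etrest.RDer3 Groth.Agent.Etrest.RDer4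
  Groth.Agent.Etrest.DEtPush Groth.Agent.EtpbcB Groth.Agent.Etbc.H185

variable {X Y X' Y' : Scheme.{u}} (f : X ⟶ Y) (g : Y' ⟶ Y) (f' : X' ⟶ Y') (g' : X' ⟶ X)
  (w : g' ≫ f = f' ≫ g)

theorem hα (F : EtCoh.Ab X) : (EtCoh.pullPushAdj g).unit.app ((EtCoh.push f).obj F) ≫
    (EtCoh.push g).map ((BCCalc.bcNat w).app F) = (EtBC.pushToPushPull f g f' g' w).app F := by
  have h1 := MateCalc.unit_bc (EtCoh.pullPushAdj g) (EtCoh.pullPushAdj g') (BCCalc.sq w).hom F
  refine h1.trans ?_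
  simp only [EtBC.pushToPushPull, NatTrans.comp_app, Functor.leftUnitor_inv_app,
    Functor.whiskerRight_app, Functor.associator_hom_app, Functor.whiskerLeft_app, Category.id_comp]
  rfl

variable [PreservesFiniteLimits (EtCoh.pull g)] [PreservesFiniteLimits (EtCoh.pull g')]
    [DCoh.HasRpushEt X f] [DCoh.HasRpushEt X' f'] [DCoh.HasRpushEt Y' g]

theorem bcMap_rfl (adj : EtBC.pullD g ⊣ DCoh.RpushEt Y' g) (K : DCoh.DEt X) :
    EtBC.bcMap f g f' g' w adj K = BcCore1.bcMap (EtBC.pushToPushPull f g f' g' w) adj K := rfl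

theorem bcMap_eq (adj : EtBC.pullD g ⊣ DCoh.RpushEt Y' g) (K : DCoh.DEt X) :
    EtBC.bcMap f g f' g' w adj K =
      (BcCore3.autoE (EtCoh.pullPushAdj g) adj).hom.app ((DCoh.RpushEt X f).obj K) ≫
      (EtBC.pullD g).map ((rpushIso f).hom.app K) ≫ (bcEt w).app K ≫
      (rpushIso f').inv.app ((EtBC.pullD g').obj K) :=
  BcCore3.bcMap_eq (EtCoh.pullPushAdj g) (hα f g f' g' w) adj K

theorem isIso_bcMap_iff (adj : EtBC.pullD g ⊣ DCoh.RpushEt Y' g) (K : DCoh.DEt X) :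
    IsIso (EtBC.bcMap f g f' g' w adj K) ↔ IsIso ((bcEt w).app K) :=
  BcCore3.isIso_bcMap_iff (EtCoh.pullPushAdj g) (hα f g f' g' w) adj K

theorem bcMap_iff (P : MorphismProperty (DCoh.DEt Y')) [P.RespectsIso]
    (adj : EtBC.pullD g ⊣ DCoh.RpushEt Y' g) (K : DCoh.DEt X) :
    P (EtBC.bcMap f g f' g' w adj K) ↔ P ((bcEt w).app K) :=
  BcCore3.bcMap_iff (EtCoh.pullPushAdj g) (hα f g f' g' w) P adj K

theorem homology_isIso_iff (adj : EtBC.pullD g ⊣ DCoh.RpushEt Y' g) (K : DCoh.DEt X) (q : ℤ) :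
    IsIso ((DerivedCategory.homologyFunctor (EtCoh.Ab Y') q).map (EtBC.bcMap f g f' g' w adj K)) ↔
      IsIso ((DerivedCategory.homologyFunctor (EtCoh.Ab Y') q).map ((bcEt w).app K)) :=
  bcMap_iff f g f' g' w
    ((MorphismProperty.isomorphisms _).inverseImage (DerivedCategory.homologyFunctor (EtCoh.Ab Y') q))
    adj K

theorem homology_mono_iff (adj : EtBC.pullD g ⊣ DCoh.RpushEt Y' g) (K : DCoh.DEt X) (q : ℤ) :
    Mono ((DerivedCategory.homologyFunctor (EtCoh.Ab Y') q).map (EtBC.bcMap f g f' g' w adj K)) ↔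
      Mono ((DerivedCategory.homologyFunctor (EtCoh.Ab Y') q).map ((bcEt w).app K)) :=
  bcMap_iff f g f' g' w
    ((MorphismProperty.monomorphisms _).inverseImage (DerivedCategory.homologyFunctor (EtCoh.Ab Y') q))
    adj K

theorem homology_epi_iff (adj : EtBC.pullD g ⊣ DCoh.RpushEt Y' g) (K : DCoh.DEt X) (q : ℤ) :
    Epi ((DerivedCategory.homologyFunctor (EtCoh.Ab Y') q).map (EtBC.bcMap f g f' g' w adj K)) ↔
      Epi ((DerivedCategory.homologyFunctor (EtCoh.Ab Y') q).map ((bcEt w).app K)) :=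
  bcMap_iff f g f' g' w
    ((MorphismProperty.epimorphisms _).inverseImage (DerivedCategory.homologyFunctor (EtCoh.Ab Y') q))
    adj K

theorem isIso_bcMap_of_acyc (adj : EtBC.pullD g ⊣ DCoh.RpushEt Y' g) (K : DCoh.DEt X)
    (T : CochainComplex (EtCoh.Ab X) ℤ) (a : ℤ) [T.IsStrictlyGE a]
    (e : Nonempty (DerivedCategory.Q.obj T ≅ K)) (h1 : ∀ i, IsAcyc (EtCoh.push f) (T.X i))
    (h2 : ∀ i, IsAcyc (EtCoh.push f') ((EtCoh.pull g').obj (T.X i)))
    (h3 : ∀ i, IsIso (EtCoh.baseChange0 f g f' g' w (T.X i))) :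
    IsIso (EtBC.bcMap f g f' g' w adj K) := by
  obtain ⟨e⟩ := e
  exact (isIso_bcMap_iff f g f' g' w adj K).2
    (isIso_bcD_of_iso _ e (isIso_bcD_Q_of_isAcyc _ _ a h1 h2 h3))

end Groth.Agent.Etbc.H185.BcMap
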