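import Groth.Agent.Etbc.H185.ClassRes
import Groth.Agent.Etbc.H185.BcMap
import Groth.Agent.EtpbcB.TorsVanN
import Groth.Prelude.Def_EtAcyc

/-!
# `L`-torsion sheaves and resolutions by `N`-torsion parts of injective sheaves

* `ordL L`, `isOrd_ordL`, `isLTorsion_iff`: `EtAcyc.IsLTorsion L` is `TorsionN (ordL L)`.
* `IsTorInj N M`: `M` is isomorphic to `torsN N J`, `J` injective;  `exists_resolution`: resolution of an
  `N`-torsion sheaf by such sheaves;  `IsTorInj.isAcyc`, `IsTorInj.torsionN`.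
* `mem_invOrd`, `torsionN_invOrd_of_isLTorsion`.
-/

set_option autoImplicit false
universe u

open CategoryTheory CategoryTheory.Limits Opposite AlgebraicGeometry

attribute [local instance] HasDerivedCategory.standard

noncomputable section
namespace Groth.Agent.Etbc.H185.LTors

open Groth.Agent.Etrest Groth.Agent.Etrest.RDer2 Groth.Agent.EtpbcB Groth.Agent.EtpbcB.TorsSubN
  Groth.Agent.EtpbcB.TorsEtN Groth.Agent.EtpbcB.TorsVanN Groth.Agent.Etbc.H185

/-- The positive integers all of whose prime factors are in `L`. -/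
def ordL (L : Set ℕ) : Set ℕ := {m | EtAcyc.PrimesIn L m}

theorem isOrd_ordL (L : Set ℕ) : IsOrd (ordL L) where
  one_mem := ⟨Nat.one_pos, fun _ hp h => (hp.one_lt.ne' (Nat.dvd_one.1 h)).elim⟩
  mul_mem := fun h h' => ⟨Nat.mul_pos h.1 h'.1, fun p hp hpm =>
    (hp.dvd_mul.1 hpm).elim (h.2 p hp) (h'.2 p hp)⟩
  of_dvd := fun h h' => ⟨Nat.pos_of_dvd_of_pos h h'.1, fun p hp hpm => h'.2 p hp (hpm.trans h)⟩
  pos := fun h => h.1

variable {X Y : Scheme.{u}}

theorem isLTorsion_iff (L : Set ℕ) (F : EtCoh.Ab X) :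
    EtAcyc.IsLTorsion L F ↔ TorsionN (ordL L) F := Iff.rfl

/-- `M` is the `N`-torsion part of an injective sheaf. -/
def IsTorInj (N : Set ℕ) (M : EtCoh.Ab X) : Prop :=
  ∃ J : EtCoh.Ab X, Injective J ∧ Nonempty (M ≅ torsN N J)

theorem IsTorInj.of_iso {N : Set ℕ} {M M' : EtCoh.Ab X} (e : M ≅ M') (h : IsTorInj N M) :
    IsTorInj N M' := by
  obtain ⟨J, hJ, ⟨i⟩⟩ := h
  exact ⟨J, hJ, ⟨e.symm ≪≫ i⟩⟩

theorem isTorInj_of_isZero {N : Set ℕ} {M : EtCoh.Ab X} (h : IsZero M) : IsTorInj N M :=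
  ⟨M, h.injective, ⟨h.iso (IsZero.of_mono (torsNι N M) h)⟩⟩

theorem torsionN_of_iso {N : Set ℕ} {M M' : EtCoh.Ab X} (e : M ≅ M') (h : TorsionN N M) :
    TorsionN N M' := torsionN_of_mono e.inv h

theorem IsTorInj.torsionN {N : Set ℕ} (hN : IsOrd N) {M : EtCoh.Ab X} (h : IsTorInj N M) :
    TorsionN N M := by
  obtain ⟨J, hJ, ⟨i⟩⟩ := h
  exact torsionN_of_iso i.symm (torsionN_torsN hN J)

theorem IsTorInj.isAcyc {N : Set ℕ} (hN : IsOrd N) (f : X ⟶ Y) [QuasiCompact f] [QuasiSeparated f]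
    {M : EtCoh.Ab X} (h : IsTorInj N M) : IsAcyc (EtCoh.push f) M := by
  obtain ⟨J, hJ, ⟨i⟩⟩ := h
  exact isAcyc_of_iso (EtCoh.push f) i.symm
    (fun n => acyclic_push_torsN hN f J (n + 1) n.succ_pos)

theorem exists_resolution {N : Set ℕ} (hN : IsOrd N) (F : EtCoh.Ab X) (hF : TorsionN N F) :
    ∃ (T : CochainComplex (EtCoh.Ab X) ℤ) (_ : T.IsStrictlyGE 0),
      Nonempty (DerivedCategory.Q.obj T ≅ EtBC.single X F) ∧ ∀ n, IsTorInj N (T.X n) := by
  refine ClassRes.exists_iso_Q (P := fun F : EtCoh.Ab X => TorsionN N F) (Q := IsTorInj N) ?_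
    (fun _ h => isTorInj_of_isZero h) (fun e h => h.of_iso e) F hF
  intro F hF
  obtain ⟨J, hJ, i, hi⟩ := exists_mono_torsN F hF
  exact ⟨torsN N J, i, hi, ⟨J, hJ, ⟨Iso.refl _⟩⟩,
    torsionN_of_epi (cokernel.π i) (torsionN_torsN hN J)⟩

theorem natCast_ne_zero {K : Type*} [Field K] {m : ℕ} (hm : 0 < m)
    (h : ∀ p : ℕ, p.Prime → p ∣ m → (p : K) ≠ 0) : (m : K) ≠ 0 := by
  intro h0
  have h1 : ringChar K ∣ m := (ringChar.spec K m).1 h0
  have h2 : ringChar K ≠ 0 := by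
    intro h3
    rw [h3, zero_dvd_iff] at h1
    omega
  have h3 : (ringChar K).Prime := CharP.char_prime_of_ne_zero K h2
  exact h _ h3 h1 (ringChar.Nat.cast_ringChar)

theorem mem_invOrd {m : ℕ} (hm : EtAcyc.PrimesIn (EtAcyc.primesInvertibleOn Y) m) :
    m ∈ invOrd Y := by
  refine ⟨hm.1, ?_⟩
  refine RingedSpace.isUnit_of_isUnit_germ Y.toRingedSpace ⊤ (m : Γ(Y, ⊤)) (fun y _ => ?_)
  have h1 : IsUnit ((m : ℕ) : Y.presheaf.stalk y) := by
    rw [← IsLocalRing.residue_ne_zero_iff_isUnit, map_natCast]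
    exact natCast_ne_zero (K := Y.residueField y) hm.1 (fun p hp hpm => (hm.2 p hp hpm).2 y)
  have h2 := map_natCast (Y.presheaf.germ ⊤ y trivial).hom m
  exact h2 ▸ h1

theorem torsionN_invOrd_of_isLTorsion {F : EtCoh.Ab X}
    (hF : EtAcyc.IsLTorsion (EtAcyc.primesInvertibleOn Y) F) : TorsionN (invOrd Y) F :=
  torsionN_mono (fun _ h => mem_invOrd h) hF

end Groth.Agent.Etbc.H185.LTors
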