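import Groth.Agent.Etrest.RDer4
import Mathlib.CategoryTheory.Adjunction.Unique

/-!
# The abstract derived base change morphism in the style of `Groth.Prelude.Def_EtBCD`

Abstract versions of `EtBC.pushToPushPullH`, `EtBC.bcUnit`, `EtBC.bcAdj`, `EtBC.bcMap`.
-/

set_option autoImplicit false
universe w w' w'' w''' v v' v'' v''' u u' u'' u'''
open CategoryTheory CategoryTheory.Limits

set_option linter.unusedSectionVars false

noncomputable section
namespace Groth.Agent.Etbc.H185.BcCore1
open Groth.Agent.Etrest Groth.Agent.Etrest.RDer1 Groth.Agent.Etrest.RDer2 Groth.Agent.Etrest.RDer3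
  Groth.Agent.Etrest.RDer4

variable {A : Type u} [Category.{v} A] [Abelian A] [HasDerivedCategory.{w} A]
  {B : Type u'} [Category.{v'} B] [Abelian B] [HasDerivedCategory.{w'} B]
  {A₂ : Type u''} [Category.{v''} A₂] [Abelian A₂] [HasDerivedCategory.{w''} A₂]
  {B₂ : Type u'''} [Category.{v'''} B₂] [Abelian B₂] [HasDerivedCategory.{w'''} B₂]
  {G : A ⥤ B} [G.Additive] {E : A ⥤ A₂} [E.Additive] {G₂ : A₂ ⥤ B₂} [G₂.Additive]
  {H : B₂ ⥤ B} [H.Additive]

/-- A natural transformation `G ⟶ E ⋙ G₂ ⋙ H` on complexes. -/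
@[simps! app_f]
def alphaCx (α : G ⟶ E ⋙ G₂ ⋙ H) :
    G.mapHomologicalComplex (ComplexShape.up ℤ) ⟶
      E.mapHomologicalComplex (ComplexShape.up ℤ) ⋙ G₂.mapHomologicalComplex (ComplexShape.up ℤ) ⋙
        H.mapHomologicalComplex (ComplexShape.up ℤ) where
  app K := { f := fun i => α.app (K.X i)
             comm' := fun i j _ => (α.naturality (K.d i j)).symm }
  naturality := fun K L φ => by
    ext i
    exact α.naturality (φ.f i)

/-- The abstract version of `EtBC.pushToPushPullH`. -/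
def alphaH (α : G ⟶ E ⋙ G₂ ⋙ H) :
    G.mapHomotopyCategory (ComplexShape.up ℤ) ⟶
      E.mapHomotopyCategory (ComplexShape.up ℤ) ⋙ G₂.mapHomotopyCategory (ComplexShape.up ℤ) ⋙
        H.mapHomotopyCategory (ComplexShape.up ℤ) :=
  NatTrans.mapHomotopyCategory α (ComplexShape.up ℤ) ≫
    (Functor.mapHomotopyCategoryCompIso (Iso.refl (E ⋙ (G₂ ⋙ H))) (ComplexShape.up ℤ)).inv ≫
    Functor.whiskerLeft (E.mapHomotopyCategory (ComplexShape.up ℤ))
      (Functor.mapHomotopyCategoryCompIso (Iso.refl (G₂ ⋙ H)) (ComplexShape.up ℤ)).inv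

theorem alphaH_app (α : G ⟶ E ⋙ G₂ ⋙ H) (K : CochainComplex A ℤ) :
    (alphaH α).app ((HomotopyCategory.quotient A (.up ℤ)).obj K) =
      (HomotopyCategory.quotient B (.up ℤ)).map ((alphaCx α).app K) := by
  unfold alphaH
  rw [NatTrans.comp_app, NatTrans.comp_app]
  have h1 : (NatTrans.mapHomotopyCategory α (ComplexShape.up ℤ)).app
      ((HomotopyCategory.quotient A (.up ℤ)).obj K) =
      (HomotopyCategory.quotient B (.up ℤ)).map ((alphaCx α).app K) := rfl
  have h2 : (Functor.mapHomotopyCategoryCompIso (Iso.refl (E ⋙ (G₂ ⋙ H))) (ComplexShape.up ℤ)).inv.app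
      ((HomotopyCategory.quotient A (.up ℤ)).obj K) = 𝟙 _ := by
    refine Eq.trans (b := (HomotopyCategory.quotient B (.up ℤ)).map (𝟙 _)) ?_ (CategoryTheory.Functor.map_id _ _)
    rfl
  have h3 : (Functor.whiskerLeft (E.mapHomotopyCategory (ComplexShape.up ℤ))
      (Functor.mapHomotopyCategoryCompIso (Iso.refl (G₂ ⋙ H)) (ComplexShape.up ℤ)).inv).app
      ((HomotopyCategory.quotient A (.up ℤ)).obj K) = 𝟙 _ := by
    refine Eq.trans (b := (HomotopyCategory.quotient B (.up ℤ)).map (𝟙 _)) ?_ (CategoryTheory.Functor.map_id _ _)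
    rfl
  rw [h1, h2, h3]
  exact (congrArg (fun t => _ ≫ t) (Category.comp_id _)).trans (Category.comp_id _)

/-- Existence of the total right derived functor of `G`. -/
abbrev HasR (G : A ⥤ B) [G.Additive] : Prop :=
  (Kh G).HasRightDerivedFunctor (HomotopyCategory.quasiIso A (ComplexShape.up ℤ))

/-- The total right derived functor of `G` (chosen by Mathlib). -/
abbrev RT (G : A ⥤ B) [G.Additive] [HasR G] : DerivedCategory A ⥤ DerivedCategory B :=
  (Kh G).totalRightDerived DerivedCategory.Qh (HomotopyCategory.quasiIso A (ComplexShape.up ℤ))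

/-- The unit of the total right derived functor. -/
abbrev uT (G : A ⥤ B) [G.Additive] [HasR G] : Kh G ⟶ DerivedCategory.Qh ⋙ RT G :=
  (Kh G).totalRightDerivedUnit DerivedCategory.Qh (HomotopyCategory.quasiIso A (ComplexShape.up ℤ))

section bcMap

variable (α : G ⟶ E ⋙ G₂ ⋙ H) [PreservesFiniteLimits E] [PreservesFiniteColimits E]
  [HasR G] [HasR G₂] [HasR H]

/-- The abstract version of `EtBC.bcUnit`. -/
def bcUnit : Kh G ⟶ DerivedCategory.Qh ⋙ (E.mapDerivedCategory ⋙ RT G₂ ⋙ RT H) :=
  Functor.whiskerRight (alphaH α) DerivedCategory.Qh ≫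
    (Functor.associator _ _ _).hom ≫
    Functor.whiskerLeft (E.mapHomotopyCategory (ComplexShape.up ℤ))
      ((Functor.associator _ _ _).hom ≫
        Functor.whiskerLeft (G₂.mapHomotopyCategory (ComplexShape.up ℤ)) (uT H) ≫
        (Functor.associator _ _ _).inv ≫
        Functor.whiskerRight (uT G₂) (RT H) ≫
        (Functor.associator _ _ _).hom) ≫
    (Functor.associator _ _ _).inv ≫
    Functor.whiskerRight E.mapDerivedCategoryFactorsh.inv (RT G₂ ⋙ RT H) ≫
    (Functor.associator _ _ _).hom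

/-- The abstract version of `EtBC.bcAdj`. -/
def bcAdj : RT G ⟶ E.mapDerivedCategory ⋙ RT G₂ ⋙ RT H :=
  (RT G).rightDerivedDesc (uT G) (HomotopyCategory.quasiIso A (ComplexShape.up ℤ))
    (E.mapDerivedCategory ⋙ RT G₂ ⋙ RT H) (bcUnit α)

variable {E' : B ⥤ B₂} [E'.Additive] [PreservesFiniteLimits E'] [PreservesFiniteColimits E']

/-- The abstract version of `EtBC.bcMap`. -/
def bcMap (adj : E'.mapDerivedCategory ⊣ RT H) (K : DerivedCategory A) :
    E'.mapDerivedCategory.obj ((RT G).obj K) ⟶ (RT G₂).obj (E.mapDerivedCategory.obj K) :=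
  (adj.homEquiv _ _).symm ((bcAdj α).app K)

theorem bcUnit_app (K : CochainComplex A ℤ) :
    (bcUnit α).app ((HomotopyCategory.quotient A (.up ℤ)).obj K) =
      DerivedCategory.Qh.map ((HomotopyCategory.quotient B (.up ℤ)).map ((alphaCx α).app K)) ≫
        (uT H).app ((HomotopyCategory.quotient B₂ (.up ℤ)).obj ((G₂.mapHomologicalComplex (.up ℤ)).obj
          ((E.mapHomologicalComplex (.up ℤ)).obj K))) ≫
        (RT H).map ((uT G₂).app ((HomotopyCategory.quotient A₂ (.up ℤ)).obj
          ((E.mapHomologicalComplex (.up ℤ)).obj K))) ≫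
        (RT H).map ((RT G₂).map (E.mapDerivedCategoryFactorsh.inv.app
          ((HomotopyCategory.quotient A (.up ℤ)).obj K))) := by
  unfold bcUnit
  rw [← alphaH_app α K]
  simp only [NatTrans.comp_app, Functor.whiskerRight_app, Functor.whiskerLeft_app,
    Functor.associator_hom_app, Functor.associator_inv_app, Category.id_comp, Category.comp_id,
    Category.assoc]
  rfl

end bcMap

end Groth.Agent.Etbc.H185.BcCore1
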