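import Groth.Agent.Etbc.H185.BcCore1

/-!
# The abstract derived base change morphism is the transformation `bcD`
-/

set_option autoImplicit false
universe w w' w'' w''' v v' v'' v''' u u' u'' u'''
open CategoryTheory CategoryTheory.Limits

set_option linter.unusedSectionVars false

noncomputable section
namespace Groth.Agent.Etbc.H185.BcCore2
open Groth.Agent.Etrest Groth.Agent.Etrest.RDer1 Groth.Agent.Etrest.RDer2 Groth.Agent.Etrest.RDer3
  Groth.Agent.Etrest.RDer4 Groth.Agent.Etbc.H185.BcCore1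

variable {A : Type u} [Category.{v} A] [Abelian A] [HasDerivedCategory.{w} A] [HasKInj A]
  {B : Type u'} [Category.{v'} B] [Abelian B] [HasDerivedCategory.{w'} B]
  {A₂ : Type u''} [Category.{v''} A₂] [Abelian A₂] [HasDerivedCategory.{w''} A₂] [HasKInj A₂]
  {B₂ : Type u'''} [Category.{v'''} B₂] [Abelian B₂] [HasDerivedCategory.{w'''} B₂] [HasKInj B₂]

theorem uT_TRIso (G : A ⥤ B) [G.Additive] [HasR G] (K : HomotopyCategory A (.up ℤ)) :
    (uT G).app K ≫ (TRIso G).hom.app (DerivedCategory.Qh.obj K) = (unitTR G).app K := rfl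

theorem unitTR_TRIso_inv (G : A ⥤ B) [G.Additive] [HasR G] (K : HomotopyCategory A (.up ℤ)) :
    (unitTR G).app K ≫ (TRIso G).inv.app (DerivedCategory.Qh.obj K) = (uT G).app K := by
  rw [← uT_TRIso, Category.assoc, Iso.hom_inv_id_app]
  exact Category.comp_id _

theorem aux1 {C : Type*} [Category* C] {a b c d e f : C} (q : a ⟶ b) (u : b ⟶ c) (m : c ⟶ d) (t : d ⟶ e)
    (t' : c ⟶ f) (m' : f ⟶ e) (h1 : m ≫ t = t' ≫ m') (u' : b ⟶ f) (h2 : u ≫ t' = u') :
    (q ≫ u ≫ m) ≫ t = q ≫ u' ≫ m' := by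
  subst h2
  rw [Category.assoc, Category.assoc, h1, Category.assoc]

/-- `unitQ` and the chosen unit. -/
theorem unitQ_TRIso_inv (G : A ⥤ B) [G.Additive] [HasR G] (K : CochainComplex A ℤ) :
    (unitQ G).app K ≫ (TRIso G).inv.app (DerivedCategory.Q.obj K) =
      (DerivedCategory.quotientCompQhIso B).inv.app ((G.mapHomologicalComplex (.up ℤ)).obj K) ≫
      (uT G).app ((HomotopyCategory.quotient A (.up ℤ)).obj K) ≫
      (RT G).map ((DerivedCategory.quotientCompQhIso A).hom.app K) :=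
  aux1 ((DerivedCategory.quotientCompQhIso B).inv.app ((G.mapHomologicalComplex (.up ℤ)).obj K))
    ((unitTR G).app ((HomotopyCategory.quotient A (.up ℤ)).obj K))
    ((TR G).map ((DerivedCategory.quotientCompQhIso A).hom.app K)) _ _ _
    ((TRIso G).inv.naturality ((DerivedCategory.quotientCompQhIso A).hom.app K)) _
    (unitTR_TRIso_inv G ((HomotopyCategory.quotient A (.up ℤ)).obj K))

section bc

variable {G : A ⥤ B} [G.Additive] {G₂ : A₂ ⥤ B₂} [G₂.Additive]
  {E : A ⥤ A₂} [E.Additive] [PreservesFiniteLimits E] [PreservesFiniteColimits E]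
  {E' : B ⥤ B₂} [E'.Additive] [PreservesFiniteLimits E'] [PreservesFiniteColimits E']
  {H : B₂ ⥤ B} [H.Additive] (adj : E' ⊣ H) [HasR G] [HasR G₂] [HasR H]

/-- The adjunction `E' ⊣ RH` for Mathlib's total right derived functor. -/
def adj₀ : E'.mapDerivedCategory ⊣ RT H := (dAdj adj).ofNatIsoRight (TRIso H).symm

theorem adj₀_unit (M : DerivedCategory B) : (adj₀ adj).unit.app M =
    (dAdj adj).unit.app M ≫ (TRIso H).inv.app (E'.mapDerivedCategory.obj M) := by
  rw [← Adjunction.homEquiv_id, adj₀, Adjunction.homEquiv_ofNatIsoRight_apply, Adjunction.homEquiv_id]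
  rfl

theorem aux2 {D D' : Type*} [Category* D] [Category* D'] (RH TH : D ⥤ D') (t : TH ⟶ RH)
    {m m' : D'} {e f g : D} (η : m ⟶ TH.obj e) (a : e ⟶ f) (p : m ⟶ m') (u : m' ⟶ TH.obj f)
    (h : η ≫ TH.map a = p ≫ u) (c : f ⟶ g) :
    (η ≫ t.app e) ≫ RH.map (a ≫ c) = p ≫ (u ≫ t.app f) ≫ RH.map c := by
  rw [RH.map_comp, Category.assoc, Category.assoc, ← t.naturality_assoc, reassoc_of% h]

/-- The unit of `adj₀` on complexes. -/
theorem adj₀_unit_Q (K : CochainComplex B ℤ) {N : DerivedCategory B₂}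
    (c : DerivedCategory.Q.obj ((E'.mapHomologicalComplex (.up ℤ)).obj K) ⟶ N) :
    (adj₀ adj).unit.app (DerivedCategory.Q.obj K) ≫
      (RT H).map (E'.mapDerivedCategoryFactors.hom.app K ≫ c) =
      DerivedCategory.Q.map ((Dcoh.DerAdj.adjCx adj (.up ℤ)).unit.app K) ≫
        ((unitQ H).app ((E'.mapHomologicalComplex (.up ℤ)).obj K) ≫
          (TRIso H).inv.app (DerivedCategory.Q.obj ((E'.mapHomologicalComplex (.up ℤ)).obj K))) ≫
          (RT H).map c := by
  rw [adj₀_unit]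
  exact aux2 (RT H) (TR H) (TRIso H).inv ((dAdj adj).unit.app (DerivedCategory.Q.obj K))
    (E'.mapDerivedCategoryFactors.hom.app K) _ _ (dAdj_unit adj K) c

theorem aux3 {D D₂ : Type*} [Category* D] [Category* D₂] {R T : D₂ ⥤ D} (t : T ⟶ R) {a b : D}
    (q : a ⟶ b) (q' : b ⟶ a) (hq : q ≫ q' = 𝟙 a) {x x' y z : D₂} (U : b ⟶ T.obj x) (f : x ⟶ y)
    (g : y ⟶ z) (u : a ⟶ R.obj x') (s : x' ⟶ x) (hU : U ≫ t.app x = q' ≫ u ≫ R.map s)
    (r : x' ⟶ z) (hr : r = s ≫ f ≫ g) :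
    q ≫ U ≫ T.map f ≫ T.map g ≫ t.app z = u ≫ R.map r := by
  subst hr
  have h1 : U ≫ T.map f ≫ T.map g ≫ t.app z = (q' ≫ u ≫ R.map s) ≫ R.map (f ≫ g) := by
    rw [← hU, Category.assoc, ← t.naturality, T.map_comp, Category.assoc]
  rw [h1, Category.assoc, Category.assoc, reassoc_of% hq, ← R.map_comp]

theorem aux4 {D D' : Type*} [Category* D] [Category* D'] {RH : D ⥤ D'} {L : D' ⥤ D}
    (η : 𝟭 D' ⟶ L ⋙ RH) {k rg tg k1 k2 k3 k4 : D'} (uG : k ⟶ rg) (i : rg ⟶ tg) (uTR : k ⟶ tg)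
    (h1 : uG ≫ i = uTR) {T2 z T1 T0 l1 l2 l3 r0 : D} (b : L.obj tg ⟶ T2) (t2 : T2 ⟶ z)
    (qh : k ⟶ k1) (bq : L.obj k1 ⟶ T1) (m : T1 ⟶ T2) (h2 : L.map uTR ≫ b = L.map qh ≫ bq ≫ m)
    (e : L.obj k1 ⟶ l1) (c0 : l1 ⟶ l2) (c1 : l2 ⟶ T0) (m1 : T0 ⟶ T1)
    (h3 : bq = e ≫ c0 ≫ c1 ≫ m1) (p : k1 ⟶ k2) (v1 : k2 ⟶ RH.obj l1)
    (h4 : ∀ {N : D} (c : l1 ⟶ N), η.app k1 ≫ RH.map (e ≫ c) = p ≫ v1 ≫ RH.map c)
    (p' : k2 ⟶ k3) (v2 : k3 ⟶ RH.obj l2) (h5 : v1 ≫ RH.map c0 = p' ≫ v2)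
    (qh' : k3 ⟶ k4) (w : k4 ⟶ RH.obj l3) (ql : l3 ⟶ l2) (h6 : v2 = qh' ≫ w ≫ RH.map ql)
    (β : k ⟶ k4) (h7 : qh ≫ (p ≫ p') ≫ qh' = β) (u2 : l3 ⟶ r0) (r2 : r0 ⟶ z)
    (h8 : ql ≫ c1 ≫ m1 ≫ m ≫ t2 = u2 ≫ r2) :
    uG ≫ η.app rg ≫ RH.map (L.map i ≫ b ≫ t2) = β ≫ w ≫ RH.map u2 ≫ RH.map r2 := by
  subst h1 h3 h6 h7
  have n1 := η.naturality uG
  have n2 := η.naturality qh
  dsimp only [Functor.id_obj, Functor.id_map, Functor.comp_obj, Functor.comp_map] at n1 n2
  have e1 : uG ≫ η.app rg ≫ RH.map (L.map i ≫ b ≫ t2) =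
      η.app k ≫ RH.map ((L.map (uG ≫ i) ≫ b) ≫ t2) := by
    rw [reassoc_of% n1, L.map_comp]
    simp only [Functor.map_comp, Category.assoc]
  rw [e1, h2]
  have e2 : η.app k ≫ RH.map ((L.map qh ≫ (e ≫ c0 ≫ c1 ≫ m1) ≫ m) ≫ t2) =
      qh ≫ η.app k1 ≫ RH.map (e ≫ (c0 ≫ c1 ≫ m1 ≫ m ≫ t2)) := by
    rw [reassoc_of% n2]
    simp only [Functor.map_comp, Category.assoc]
  rw [e2, h4, RH.map_comp c0, reassoc_of% h5, Category.assoc, Category.assoc, ← RH.map_comp ql, h8,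
    RH.map_comp]
  simp only [Category.assoc]

variable {bc : G ⋙ E' ⟶ E ⋙ G₂} {α : G ⟶ E ⋙ G₂ ⋙ H}
  (hα : ∀ F : A, adj.unit.app (G.obj F) ≫ H.map (bc.app F) = α.app F)

theorem nat_aux (H : B₂ ⥤ B) [H.Additive] [HasR H] {K L : CochainComplex B₂ ℤ} (φ : K ⟶ L) :
    ((unitQ H).app K ≫ (TRIso H).inv.app (DerivedCategory.Q.obj K)) ≫
        (RT H).map (DerivedCategory.Q.map φ) =
      DerivedCategory.Q.map ((H.mapHomologicalComplex (.up ℤ)).map φ) ≫
        ((unitQ H).app L ≫ (TRIso H).inv.app (DerivedCategory.Q.obj L)) :=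
  ((unitQ H ≫ Functor.whiskerLeft DerivedCategory.Q (TRIso H).inv).naturality φ).symm

include hα in
theorem h7_aux (K : CochainComplex A ℤ) :
    (DerivedCategory.quotientCompQhIso B).hom.app ((G.mapHomologicalComplex (.up ℤ)).obj K) ≫
      (DerivedCategory.Q.map ((Dcoh.DerAdj.adjCx adj (.up ℤ)).unit.app
        ((G.mapHomologicalComplex (.up ℤ)).obj K)) ≫
        DerivedCategory.Q.map ((H.mapHomologicalComplex (.up ℤ)).map ((bcCx bc).app K))) ≫
      (DerivedCategory.quotientCompQhIso B).inv.app ((H.mapHomologicalComplex (.up ℤ)).obj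
        ((G₂.mapHomologicalComplex (.up ℤ)).obj ((E.mapHomologicalComplex (.up ℤ)).obj K))) =
      DerivedCategory.Qh.map ((HomotopyCategory.quotient B (.up ℤ)).map ((alphaCx α).app K)) := by
  have h1 : (Dcoh.DerAdj.adjCx adj (.up ℤ)).unit.app ((G.mapHomologicalComplex (.up ℤ)).obj K) ≫
      (H.mapHomologicalComplex (.up ℤ)).map ((bcCx bc).app K) = (alphaCx α).app K := by
    ext i
    exact hα (K.X i)
  have h2 := (DerivedCategory.quotientCompQhIso B).hom.naturality ((alphaCx α).app K)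
  have h3 : DerivedCategory.Q.map ((Dcoh.DerAdj.adjCx adj (.up ℤ)).unit.app
        ((G.mapHomologicalComplex (.up ℤ)).obj K)) ≫
        DerivedCategory.Q.map ((H.mapHomologicalComplex (.up ℤ)).map ((bcCx bc).app K)) =
      DerivedCategory.Q.map ((alphaCx α).app K) :=
    (DerivedCategory.Q.map_comp _ _).symm.trans (congrArg _ h1)
  rw [h3]
  refine (Category.assoc _ _ _).symm.trans ?_
  refine (congrArg (fun t => t ≫ _) h2.symm).trans ?_
  refine (Category.assoc _ _ _).trans ?_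
  refine (congrArg (fun t => _ ≫ t) ((DerivedCategory.quotientCompQhIso B).hom_inv_id_app _)).trans ?_
  exact Category.comp_id _

theorem aux5 {D : Type*} [Category* D] {a b c d : D} (x : a ⟶ b) (y : b ⟶ c) (z : c ⟶ d) (w : d ⟶ d)
    (hw : w = 𝟙 d) (F : a ⟶ d) (hF : F = x ≫ y ≫ z ≫ w) (x' : b ⟶ a) (y' : c ⟶ b) (z' : d ⟶ c)
    (hx : x' ≫ x = 𝟙 _) (hy : y' ≫ y = 𝟙 _) (hz : z' ≫ z = 𝟙 _) (F' : d ⟶ a) (h : F ≫ F' = 𝟙 _) :
    F' = z' ≫ y' ≫ x' := by
  subst hw hF
  have h1 : (z' ≫ y' ≫ x') ≫ x ≫ y ≫ z ≫ 𝟙 d = 𝟙 _ := by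
    simp only [Category.assoc, Category.comp_id]
    rw [reassoc_of% hx, reassoc_of% hy, hz]
  rw [← Category.id_comp F', ← h1, Category.assoc, h, Category.comp_id]

theorem factorsh_inv (E : A ⥤ A₂) [E.Additive] [PreservesFiniteLimits E] [PreservesFiniteColimits E]
    (K : CochainComplex A ℤ) :
    E.mapDerivedCategoryFactorsh.inv.app ((HomotopyCategory.quotient A (.up ℤ)).obj K) =
      (DerivedCategory.quotientCompQhIso A₂).hom.app ((E.mapHomologicalComplex (.up ℤ)).obj K) ≫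
        E.mapDerivedCategoryFactors.inv.app K ≫
        E.mapDerivedCategory.map ((DerivedCategory.quotientCompQhIso A).inv.app K) := by
  have h1 : E.mapDerivedCategory.map ((DerivedCategory.quotientCompQhIso A).inv.app K) ≫
      E.mapDerivedCategory.map ((DerivedCategory.quotientCompQhIso A).hom.app K) = 𝟙 _ :=
    (E.mapDerivedCategory.mapIso ((DerivedCategory.quotientCompQhIso A).app K)).inv_hom_id
  exact aux5 (E.mapDerivedCategory.map ((DerivedCategory.quotientCompQhIso A).hom.app K))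
    (E.mapDerivedCategoryFactors.hom.app K) ((DerivedCategory.quotientCompQhIso A₂).inv.app _)
    (DerivedCategory.Qh.map ((E.mapHomotopyCategoryFactors (ComplexShape.up ℤ)).inv.app K))
    (DerivedCategory.Qh.map_id _) _ (E.mapDerivedCategoryFactorsh_hom_app K)
    (E.mapDerivedCategory.map ((DerivedCategory.quotientCompQhIso A).inv.app K))
    (E.mapDerivedCategoryFactors.inv.app K)
    ((DerivedCategory.quotientCompQhIso A₂).hom.app ((E.mapHomologicalComplex (.up ℤ)).obj K)) h1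
    (E.mapDerivedCategoryFactors.inv_hom_id_app K)
    ((DerivedCategory.quotientCompQhIso A₂).hom_inv_id_app _) _
    (E.mapDerivedCategoryFactorsh.hom_inv_id_app _)

include hα in
theorem main_aux (K : CochainComplex A ℤ) :
    (uT G).app ((HomotopyCategory.quotient A (.up ℤ)).obj K) ≫
      (adj₀ adj).unit.app ((RT G).obj (DerivedCategory.Qh.obj
        ((HomotopyCategory.quotient A (.up ℤ)).obj K))) ≫
      (RT H).map (E'.mapDerivedCategory.map ((TRIso G).hom.app (DerivedCategory.Qh.obj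
        ((HomotopyCategory.quotient A (.up ℤ)).obj K))) ≫ (bcD bc).app (DerivedCategory.Qh.obj
        ((HomotopyCategory.quotient A (.up ℤ)).obj K)) ≫ (TRIso G₂).inv.app
        (E.mapDerivedCategory.obj (DerivedCategory.Qh.obj
        ((HomotopyCategory.quotient A (.up ℤ)).obj K)))) =
    (bcUnit α).app ((HomotopyCategory.quotient A (.up ℤ)).obj K) := by
  rw [bcUnit_app]
  refine aux4 (adj₀ adj).unit ((uT G).app ((HomotopyCategory.quotient A (.up ℤ)).obj K))
    ((TRIso G).hom.app (DerivedCategory.Qh.obj ((HomotopyCategory.quotient A (.up ℤ)).obj K)))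
    ((unitTR G).app ((HomotopyCategory.quotient A (.up ℤ)).obj K))
    (uT_TRIso G ((HomotopyCategory.quotient A (.up ℤ)).obj K))
    _ _ ((DerivedCategory.quotientCompQhIso B).hom.app ((G.mapHomologicalComplex (.up ℤ)).obj K))
    ((bcQ bc).app K) ((TR G₂).map (E.mapDerivedCategory.map
      ((DerivedCategory.quotientCompQhIso A).inv.app K)))
    (descQ_fac_h G (bcQ bc) ((HomotopyCategory.quotient A (.up ℤ)).obj K))
    (E'.mapDerivedCategoryFactors.hom.app ((G.mapHomologicalComplex (.up ℤ)).obj K))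
    (DerivedCategory.Q.map ((bcCx bc).app K))
    ((unitQ G₂).app ((E.mapHomologicalComplex (.up ℤ)).obj K))
    ((TR G₂).map (E.mapDerivedCategoryFactors.inv.app K)) (bcQ_app bc K)
    (DerivedCategory.Q.map ((Dcoh.DerAdj.adjCx adj (.up ℤ)).unit.app
      ((G.mapHomologicalComplex (.up ℤ)).obj K))) _
    (fun c => adj₀_unit_Q adj ((G.mapHomologicalComplex (.up ℤ)).obj K) c)
    (DerivedCategory.Q.map ((H.mapHomologicalComplex (.up ℤ)).map ((bcCx bc).app K))) _ ?_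
    ((DerivedCategory.quotientCompQhIso B).inv.app _) _ _
    (unitQ_TRIso_inv H ((G₂.mapHomologicalComplex (.up ℤ)).obj
      ((E.mapHomologicalComplex (.up ℤ)).obj K))) _ ?_ _ _ ?_
  · exact nat_aux H _
  · exact h7_aux adj hα K
  · exact aux3 (TRIso G₂).inv ((DerivedCategory.quotientCompQhIso B₂).hom.app
        ((G₂.mapHomologicalComplex (.up ℤ)).obj ((E.mapHomologicalComplex (.up ℤ)).obj K)))
      ((DerivedCategory.quotientCompQhIso B₂).inv.app
        ((G₂.mapHomologicalComplex (.up ℤ)).obj ((E.mapHomologicalComplex (.up ℤ)).obj K)))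
      ((DerivedCategory.quotientCompQhIso B₂).hom_inv_id_app _) _
      (E.mapDerivedCategoryFactors.inv.app K) (E.mapDerivedCategory.map
      ((DerivedCategory.quotientCompQhIso A).inv.app K)) _
      ((DerivedCategory.quotientCompQhIso A₂).hom.app ((E.mapHomologicalComplex (.up ℤ)).obj K))
      (unitQ_TRIso_inv G₂ _) _ (factorsh_inv E K)

end bc

end Groth.Agent.Etbc.H185.BcCore2
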