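import Groth.Agent.Etbc.H185.BcCore2

/-!
# The abstract derived base change morphism is the transformation `bcD`

* `bcMap_adj₀` : `bcMap α (adj₀ adj) K = E'.map (TRIso G).hom ≫ (bcD bc).app K ≫ (TRIso G₂).inv`.
* `bcMap_eq` : the same for an arbitrary adjunction, up to an automorphism of `E'.mapDerivedCategory`.
-/

set_option autoImplicit false
universe w w' w'' w''' v v' v'' v''' u u' u'' u'''
open CategoryTheory CategoryTheory.Limits

set_option linter.unusedSectionVars false

noncomputable section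
namespace Groth.Agent.Etbc.H185.BcCore3
open Groth.Agent.Etrest Groth.Agent.Etrest.RDer1 Groth.Agent.Etrest.RDer2 Groth.Agent.Etrest.RDer3
  Groth.Agent.Etrest.RDer4 Groth.Agent.Etbc.H185.BcCore1 Groth.Agent.Etbc.H185.BcCore2

variable {A : Type u} [Category.{v} A] [Abelian A] [HasDerivedCategory.{w} A] [HasKInj A]
  {B : Type u'} [Category.{v'} B] [Abelian B] [HasDerivedCategory.{w'} B]
  {A₂ : Type u''} [Category.{v''} A₂] [Abelian A₂] [HasDerivedCategory.{w''} A₂] [HasKInj A₂]
  {B₂ : Type u'''} [Category.{v'''} B₂] [Abelian B₂] [HasDerivedCategory.{w'''} B₂] [HasKInj B₂]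
  {G : A ⥤ B} [G.Additive] {G₂ : A₂ ⥤ B₂} [G₂.Additive]
  {E : A ⥤ A₂} [E.Additive] [PreservesFiniteLimits E] [PreservesFiniteColimits E]
  {E' : B ⥤ B₂} [E'.Additive] [PreservesFiniteLimits E'] [PreservesFiniteColimits E']
  {H : B₂ ⥤ B} [H.Additive] (adj : E' ⊣ H) [HasR G] [HasR G₂] [HasR H]
  {bc : G ⋙ E' ⟶ E ⋙ G₂} {α : G ⟶ E ⋙ G₂ ⋙ H}

/-- The transpose of the derived base change transformation. -/
def bcT (bc : G ⋙ E' ⟶ E ⋙ G₂) : RT G ⟶ E.mapDerivedCategory ⋙ RT G₂ ⋙ RT H where
  app M := (adj₀ adj).unit.app ((RT G).obj M) ≫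
    (RT H).map (E'.mapDerivedCategory.map ((TRIso G).hom.app M) ≫ (bcD bc).app M ≫
      (TRIso G₂).inv.app (E.mapDerivedCategory.obj M))
  naturality M N φ := by
    have h1 := (adj₀ adj).unit.naturality ((RT G).map φ)
    have h2 := (TRIso G).hom.naturality φ
    have h3 := (bcD bc).naturality φ
    have h4 := (TRIso G₂).inv.naturality (E.mapDerivedCategory.map φ)
    dsimp only [Functor.id_obj, Functor.id_map, Functor.comp_obj, Functor.comp_map] at h1 h2 h3 h4 ⊢
    rw [reassoc_of% h1, ← (RT H).map_comp, ← E'.mapDerivedCategory.map_comp_assoc, h2,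
      Functor.map_comp_assoc, reassoc_of% h3, h4, Category.assoc, ← (RT H).map_comp]
    simp only [Category.assoc]

variable (hα : ∀ F : A, adj.unit.app (G.obj F) ≫ H.map (bc.app F) = α.app F)

include hα in
theorem bcAdj_eq : bcAdj α = bcT adj bc := by
  refine Functor.rightDerived_ext (RF := RT G) (α := uT G)
    (W := HomotopyCategory.quasiIso A (ComplexShape.up ℤ)) _ _ _ ?_
  rw [bcAdj, Functor.rightDerived_fac]
  ext K
  obtain ⟨K, rfl⟩ := HomotopyCategory.quotient_obj_surjective K
  exact (main_aux adj hα K).symm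

include hα in
theorem bcMap_adj₀ (K : DerivedCategory A) :
    bcMap α (adj₀ adj) K = E'.mapDerivedCategory.map ((TRIso G).hom.app K) ≫ (bcD bc).app K ≫
      (TRIso G₂).inv.app (E.mapDerivedCategory.obj K) := by
  rw [bcMap, Equiv.symm_apply_eq, Adjunction.homEquiv_unit, bcAdj_eq adj hα]
  rfl

theorem transpose_uniq {C D : Type*} [Category* C] [Category* D] {L : C ⥤ D} {R : D ⥤ C}
    (adj₁ adj₂ : L ⊣ R) {X : C} {Y : D} (f : X ⟶ R.obj Y) :
    (adj₁.homEquiv _ _).symm f = (Adjunction.leftAdjointUniq adj₁ adj₂).hom.app X ≫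
      (adj₂.homEquiv _ _).symm f := by
  rw [Equiv.symm_apply_eq, Adjunction.homEquiv_unit, Functor.map_comp,
    Adjunction.unit_leftAdjointUniq_hom_app_assoc, Adjunction.homEquiv_counit, Functor.map_comp,
    Adjunction.unit_naturality_assoc]
  simp

/-- The automorphism of `E'` on derived categories attached to an adjunction. -/
def autoE (adj₁ : E'.mapDerivedCategory ⊣ RT H) : E'.mapDerivedCategory ≅ E'.mapDerivedCategory :=
  Adjunction.leftAdjointUniq adj₁ (adj₀ adj)

include hα in
/-- The base change morphism, for an arbitrary adjunction. -/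
theorem bcMap_eq (adj₁ : E'.mapDerivedCategory ⊣ RT H) (K : DerivedCategory A) :
    bcMap α adj₁ K = (autoE adj adj₁).hom.app ((RT G).obj K) ≫
      E'.mapDerivedCategory.map ((TRIso G).hom.app K) ≫ (bcD bc).app K ≫
      (TRIso G₂).inv.app (E.mapDerivedCategory.obj K) := by
  rw [← bcMap_adj₀ adj hα]
  exact transpose_uniq adj₁ (adj₀ adj) _

include adj hα in
theorem isIso_bcMap_iff (adj₁ : E'.mapDerivedCategory ⊣ RT H) (K : DerivedCategory A) :
    IsIso (bcMap α adj₁ K) ↔ IsIso ((bcD bc).app K) := by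
  rw [bcMap_eq adj hα, isIso_comp_left_iff, isIso_comp_left_iff, isIso_comp_right_iff]

include adj hα in
/-- Every property of morphisms invariant under isomorphisms on both sides. -/
theorem bcMap_iff (P : MorphismProperty (DerivedCategory B₂)) [P.RespectsIso]
    (adj₁ : E'.mapDerivedCategory ⊣ RT H) (K : DerivedCategory A) :
    P (bcMap α adj₁ K) ↔ P ((bcD bc).app K) := by
  rw [bcMap_eq adj hα, P.cancel_left_of_respectsIso, P.cancel_left_of_respectsIso,
    P.cancel_right_of_respectsIso]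

end Groth.Agent.Etbc.H185.BcCore3
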