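import Groth.Agent.Etbc.H185.PartRange
import Groth.Agent.Etrest.RDer4

/-!
# The derived base change transformation in a range of degrees

Abstract setting of `RDer4.bcD`.
* `isIso_homology_bcD`, `mono_homology_bcD` (`T` a complex strictly `≥ a` of `G`-acyclic objects with
  `R^q G₂ (E T^k) = 0` for `1 ≤ q ≤ n` and `bc` an isomorphism on the terms): `H^i(bcD (Q T))` is an isomorphism for
  `i ≤ a + n`, a monomorphism for `i ≤ a + n + 1`.
* `isIso_bc_of_isIso_homology_bcD`, `isAcycN_of_isIso_homology_bcD` (converse at a `G`-acyclic object).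
-/

set_option autoImplicit false
universe w w' w'' w''' v v' v'' v''' u u' u'' u'''
open CategoryTheory CategoryTheory.Limits

set_option linter.unusedSectionVars false

noncomputable section
namespace Groth.Agent.Etbc.H185.BcRange
open Groth.Agent.Etrest Groth.Agent.Etrest.RDer1 Groth.Agent.Etrest.RDer2 Groth.Agent.Etrest.RDer3
  Groth.Agent.Etrest.RDer4 Groth.Agent.Etbc.H185.PartRange

variable {A : Type u} [Category.{v} A] [Abelian A] [HasDerivedCategory.{w} A] [HasKInj A]
  {B : Type u'} [Category.{v'} B] [Abelian B] [HasDerivedCategory.{w'} B]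
  {A₂ : Type u''} [Category.{v''} A₂] [Abelian A₂] [HasDerivedCategory.{w''} A₂] [HasKInj A₂]
  {B₂ : Type u'''} [Category.{v'''} B₂] [Abelian B₂] [HasDerivedCategory.{w'''} B₂]
  {G : A ⥤ B} [G.Additive] {G₂ : A₂ ⥤ B₂} [G₂.Additive]
  {E : A ⥤ A₂} [E.Additive] [PreservesFiniteLimits E] [PreservesFiniteColimits E]
  {E' : B ⥤ B₂} [E'.Additive] [PreservesFiniteLimits E'] [PreservesFiniteColimits E']
  (bc : G ⋙ E' ⟶ E ⋙ G₂)

theorem iff_aux {C : Type*} [Category* C] (P : MorphismProperty C) [P.RespectsIso]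
    {a b c d e f : C} (x : a ⟶ b) (hx : IsIso x) (y : b ⟶ c) (x' : a ⟶ d) (hx' : IsIso x') (q : d ⟶ e)
    (u : e ⟶ f) (v : f ⟶ c) (hv : IsIso v) (h : x ≫ y = x' ≫ q ≫ u ≫ v) : P y ↔ P (q ≫ u) := by
  rw [← P.cancel_left_of_respectsIso x, h, P.cancel_left_of_respectsIso, ← Category.assoc,
    P.cancel_right_of_respectsIso]

theorem natTrans_congr {C D : Type*} [Category* C] [Category* D] {F F' : C ⥤ D} (τ : F ⟶ F')
    (P : MorphismProperty D) [P.RespectsIso] {K L : C} (e : K ≅ L) : P (τ.app K) ↔ P (τ.app L) :=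
  P.arrow_mk_iso_iff (Arrow.isoMk (F.mapIso e) (F'.mapIso e) (τ.naturality e.hom))

/-- `bcD (Q T)` has an isomorphism invariant property `P` iff the explicit map has. -/
theorem bcD_iff (P : MorphismProperty (DerivedCategory B₂)) [P.RespectsIso]
    (T : CochainComplex A ℤ) (h1 : IsIso ((unitQ G).app T)) :
    P ((bcD bc).app (DerivedCategory.Q.obj T)) ↔
      P (DerivedCategory.Q.map ((bcCx bc).app T) ≫
        (unitQ G₂).app ((E.mapHomologicalComplex (.up ℤ)).obj T)) := by
  have h3 : IsIso (E'.mapDerivedCategory.map ((unitQ G).app T)) := inferInstance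
  have h5 : IsIso ((TR G₂).map (E.mapDerivedCategoryFactors.inv.app T)) := inferInstance
  exact iff_aux P _ h3 _ _ inferInstance _ _ _ h5 (bcD_fac bc T)

/-- If moreover `bc` is an isomorphism on the terms. -/
theorem bcD_iff_unitQ (P : MorphismProperty (DerivedCategory B₂)) [P.RespectsIso]
    (T : CochainComplex A ℤ) (h1 : IsIso ((unitQ G).app T)) (h : ∀ i, IsIso (bc.app (T.X i))) :
    P ((bcD bc).app (DerivedCategory.Q.obj T)) ↔
      P ((unitQ G₂).app ((E.mapHomologicalComplex (.up ℤ)).obj T)) := by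
  have h4 : ∀ i, IsIso (((bcCx bc).app T).f i) := h
  have h5 : IsIso ((bcCx bc).app T) := HomologicalComplex.Hom.isIso_of_components _
  rw [bcD_iff bc P T h1]
  exact P.cancel_left_of_respectsIso _ _

variable [EnoughInjectives A] [PreservesFiniteLimits G] [EnoughInjectives A₂]
    [PreservesFiniteLimits G₂] (T : CochainComplex A ℤ) (a : ℤ) [T.IsStrictlyGE a] (n : ℕ)
    (hT : ∀ i, IsAcyc G (T.X i)) (hT₂ : ∀ i, IsAcycN G₂ n (E.obj (T.X i)))
    (h : ∀ i, IsIso (bc.app (T.X i)))

include hT hT₂ h in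
theorem isIso_homology_bcD (i : ℤ) (hi : i ≤ a + n) :
    IsIso ((DerivedCategory.homologyFunctor B₂ i).map ((bcD bc).app (DerivedCategory.Q.obj T))) :=
  (bcD_iff_unitQ bc ((MorphismProperty.isomorphisms _).inverseImage
    (DerivedCategory.homologyFunctor B₂ i)) T (isIso_unitQ_of_isAcyc G T a hT) h).2
    (isIso_homology_unitQ G₂ ((E.mapHomologicalComplex (.up ℤ)).obj T) a n hT₂ i hi)

include hT hT₂ h in
theorem mono_homology_bcD (i : ℤ) (hi : i ≤ a + n + 1) :
    Mono ((DerivedCategory.homologyFunctor B₂ i).map ((bcD bc).app (DerivedCategory.Q.obj T))) :=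
  (bcD_iff_unitQ bc ((MorphismProperty.monomorphisms _).inverseImage
    (DerivedCategory.homologyFunctor B₂ i)) T (isIso_unitQ_of_isAcyc G T a hT) h).2
    (mono_homology_unitQ G₂ ((E.mapHomologicalComplex (.up ℤ)).obj T) a n hT₂ i hi)

section converse

/-- A short complex map between short complexes with zero outer terms. -/
theorem isIso_τ₂_of_zeros {C : Type*} [Category* C] [Abelian C] {S₁ S₂ : ShortComplex C} (φ : S₁ ⟶ S₂)
    (h : ShortComplex.QuasiIso φ) (hf₁ : S₁.f = 0) (hg₁ : S₁.g = 0) (hf₂ : S₂.f = 0) (hg₂ : S₂.g = 0) :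
    IsIso φ.τ₂ := by
  rw [ShortComplex.quasiIso_iff_of_zeros φ hf₁ hg₁ hf₂] at h
  obtain ⟨h1, h2⟩ := h
  have h3 : Epi φ.τ₂ := h1.epi_f hg₂
  exact isIso_of_mono_of_epi _

theorem isIso_f_of_homologyMap {C : Type*} [Category* C] [Abelian C] {K L : CochainComplex C ℤ}
    (φ : K ⟶ L) (i : ℤ) (hK : ∀ j, j ≠ i → IsZero (K.X j)) (hL : ∀ j, j ≠ i → IsZero (L.X j))
    (h : IsIso (HomologicalComplex.homologyMap φ i)) : IsIso (φ.f i) := by
  have h1 : QuasiIsoAt φ i := (quasiIsoAt_iff_isIso_homologyMap _ _).2 h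
  have h2 : ShortComplex.QuasiIso ((HomologicalComplex.shortComplexFunctor C (.up ℤ) i).map φ) :=
    (quasiIsoAt_iff _ _).1 h1
  refine isIso_τ₂_of_zeros _ h2 ?_ ?_ ?_ ?_
  · exact (hK _ (by simp)).eq_of_src _ _
  · exact (hK _ (by simp)).eq_of_tgt _ _
  · exact (hL _ (by simp)).eq_of_src _ _
  · exact (hL _ (by simp)).eq_of_tgt _ _

variable (M : A) (hM : IsAcyc G M)

/-- The single complex. -/
abbrev sgl (M : A) : CochainComplex A ℤ := (CochainComplex.singleFunctor A 0).obj M

theorem isZero_sgl (M : A) (j : ℤ) (hj : j ≠ 0) : IsZero ((sgl M).X j) :=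
  HomologicalComplex.isZero_single_obj_X _ _ _ _ hj

/-- The degree zero term. -/
def sglX (M : A) : (sgl M).X 0 ≅ M := HomologicalComplex.singleObjXSelf _ _ _

include hM in
theorem isAcyc_sgl (j : ℤ) : IsAcyc G ((sgl M).X j) := by
  by_cases hj : j = 0
  · subst hj
    exact isAcyc_of_iso G (sglX M).symm hM
  · exact isAcyc_of_isZero G (isZero_sgl M j hj)

include hM in
theorem isIso_bc_of_isIso_homology_bcD
    (h : IsIso ((DerivedCategory.homologyFunctor B₂ 0).map
      ((bcD bc).app ((DerivedCategory.singleFunctor A 0).obj M)))) : IsIso (bc.app M) := by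
  have h0 : IsIso ((DerivedCategory.homologyFunctor B₂ 0).map
      ((bcD bc).app (DerivedCategory.Q.obj (sgl M)))) :=
    (natTrans_congr (bcD bc) ((MorphismProperty.isomorphisms _).inverseImage
    (DerivedCategory.homologyFunctor B₂ 0)) ((DerivedCategory.singleFunctorIsoCompQ A 0).app M)).1 h
  have h1 := (bcD_iff bc ((MorphismProperty.isomorphisms _).inverseImage
    (DerivedCategory.homologyFunctor B₂ 0)) (sgl M)
    (isIso_unitQ_of_isAcyc G (sgl M) 0 (isAcyc_sgl M hM))).1 h0
  have h2 : IsIso ((DerivedCategory.homologyFunctor B₂ 0).map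
      ((unitQ G₂).app ((E.mapHomologicalComplex (.up ℤ)).obj (sgl M)))) :=
    isIso_homology_unitQ G₂ ((E.mapHomologicalComplex (.up ℤ)).obj (sgl M)) 0 0
      (fun i q h h' => by lia) 0 (by simp)
  have h3 : IsIso ((DerivedCategory.homologyFunctor B₂ 0).map
      (DerivedCategory.Q.map ((bcCx bc).app (sgl M)))) := by
    have h4 : IsIso ((DerivedCategory.homologyFunctor B₂ 0).map
      (DerivedCategory.Q.map ((bcCx bc).app (sgl M)) ≫
        (unitQ G₂).app ((E.mapHomologicalComplex (.up ℤ)).obj (sgl M)))) := h1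
    rw [Functor.map_comp] at h4
    exact IsIso.of_isIso_comp_right _ ((DerivedCategory.homologyFunctor B₂ 0).map
      ((unitQ G₂).app ((E.mapHomologicalComplex (.up ℤ)).obj (sgl M))))
  have h5 : IsIso (HomologicalComplex.homologyMap ((bcCx bc).app (sgl M)) 0) :=
    (NatIso.isIso_map_iff (DerivedCategory.homologyFunctorFactors B₂ 0)
      ((bcCx bc).app (sgl M))).1 h3
  have h6 : IsIso (((bcCx bc).app (sgl M)).f 0) :=
    isIso_f_of_homologyMap _ 0
      (fun j hj => E'.map_isZero (G.map_isZero (isZero_sgl M j hj)))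
      (fun j hj => G₂.map_isZero (E.map_isZero (isZero_sgl M j hj))) h5
  exact (natTrans_congr bc (MorphismProperty.isomorphisms _) (sglX M)).1 h6

include hM in
theorem isAcycN_of_isIso_homology_bcD (q : ℕ) (hq : 1 ≤ q)
    (h : IsIso ((DerivedCategory.homologyFunctor B₂ q).map
      ((bcD bc).app ((DerivedCategory.singleFunctor A 0).obj M)))) :
    IsZero ((G₂.rightDerived q).obj (E.obj M)) := by
  have h1 := isIso_unitQ_of_isAcyc G (sgl M) 0 (isAcyc_sgl M hM)
  -- the source vanishes
  have e1 : (TR G ⋙ E'.mapDerivedCategory).obj ((DerivedCategory.singleFunctor A 0).obj M) ≅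
      DerivedCategory.Q.obj ((E'.mapHomologicalComplex (.up ℤ)).obj
        ((G.mapHomologicalComplex (.up ℤ)).obj (sgl M))) :=
    (TR G ⋙ E'.mapDerivedCategory).mapIso ((DerivedCategory.singleFunctorIsoCompQ A 0).app M) ≪≫
      E'.mapDerivedCategory.mapIso (asIso ((unitQ G).app (sgl M))).symm ≪≫
      E'.mapDerivedCategoryFactors.app _
  have h2 : IsZero ((DerivedCategory.homologyFunctor B₂ q).obj
      ((TR G ⋙ E'.mapDerivedCategory).obj ((DerivedCategory.singleFunctor A 0).obj M))) := by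
    refine IsZero.of_iso ?_ ((DerivedCategory.homologyFunctor B₂ q).mapIso e1 ≪≫
      (DerivedCategory.homologyFunctorFactors B₂ q).app _)
    refine (HomologicalComplex.exactAt_iff_isZero_homology _ _).1 ?_
    exact HomologicalComplex.ExactAt.of_isZero
      (E'.map_isZero (G.map_isZero (isZero_sgl M q (by lia))))
  -- hence the target
  have h3 : IsZero ((DerivedCategory.homologyFunctor B₂ q).obj
      ((E.mapDerivedCategory ⋙ TR G₂).obj ((DerivedCategory.singleFunctor A 0).obj M))) :=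
    h2.of_iso (asIso ((DerivedCategory.homologyFunctor B₂ q).map
      ((bcD bc).app ((DerivedCategory.singleFunctor A 0).obj M)))).symm
  refine h3.of_iso ((HTRsingle G₂ q).symm.app (E.obj M) ≪≫
    (DerivedCategory.homologyFunctor B₂ q).mapIso ((TR G₂).mapIso
      ((E.mapDerivedCategorySingleFunctor 0).symm.app M)))

end converse

end Groth.Agent.Etbc.H185.BcRange
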