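import Groth.Agent.Etbc.H185.BcRange
import Groth.Agent.Etbc.H185.LTors

/-!
# `EtBC.bcMap` in a range of degrees

`f : X ⟶ Y` quasi-compact and quasi-separated, `w : g' ≫ f = f' ≫ g` any commutative square, `N` a set of orders
(`IsOrd N`), `n : ℕ`.
* `bcMap_range` (D2): if for all injective `J` the map `baseChange0` is an isomorphism at `torsN N J` and
  `R^q f'_* (g'⁻¹ (torsN N J)) = 0` for `1 ≤ q ≤ n`, then for every `N`-torsion sheaf `F` and every `adj`,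
  `H^q(bcMap (single F))` is an isomorphism for `q ≤ n` and a monomorphism for `q = n + 1`.
* `bcMap_range_of_complex`: the version for a bounded below complex of `f_*`-acyclic sheaves.
* `isIso_baseChange0_of_bcMap`, `isZero_Rpush_of_bcMap` (D1): the converse at an `f_*`-acyclic sheaf.
-/

set_option autoImplicit false
universe u

open CategoryTheory CategoryTheory.Limits Opposite AlgebraicGeometry

attribute [local instance] HasDerivedCategory.standard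

noncomputable section
namespace Groth.Agent.Etbc.H185.BcRangeEt

open Groth.Agent.Etrest Groth.Agent.Etrest.RDer2 Groth.Agent.Etrest.RDer3 Groth.Agent.Etrest.RDer4
  Groth.Agent.Etrest.DEtPush Groth.Agent.EtpbcB Groth.Agent.EtpbcB.TorsSubN
  Groth.Agent.EtpbcB.TorsEtN Groth.Agent.EtpbcB.TorsVanN
  Groth.Agent.Etbc.H185 Groth.Agent.Etbc.H185.PartRange Groth.Agent.Etbc.H185.LTors

variable {X Y X' Y' : Scheme.{u}} (f : X ⟶ Y) (g : Y' ⟶ Y) (f' : X' ⟶ Y') (g' : X' ⟶ X)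
  (w : g' ≫ f = f' ≫ g) [PreservesFiniteLimits (EtCoh.pull g)] [PreservesFiniteLimits (EtCoh.pull g')]
    [DCoh.HasRpushEt X f] [DCoh.HasRpushEt X' f'] [DCoh.HasRpushEt Y' g]

theorem isIso_bcMap_range_of_complex (adj : EtBC.pullD g ⊣ DCoh.RpushEt Y' g) (K : DCoh.DEt X)
    (T : CochainComplex (EtCoh.Ab X) ℤ) (a : ℤ) [T.IsStrictlyGE a]
    (e : Nonempty (DerivedCategory.Q.obj T ≅ K)) (n : ℕ)
    (h1 : ∀ i, IsAcyc (EtCoh.push f) (T.X i))
    (h2 : ∀ (i : ℤ) (q : ℕ), 1 ≤ q → q ≤ n → IsZero ((EtCoh.Rpush f' q).obj ((EtCoh.pull g').obj (T.X i))))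
    (h3 : ∀ i, IsIso (EtCoh.baseChange0 f g f' g' w (T.X i))) (i : ℤ) (hi : i ≤ a + n) :
    IsIso ((DerivedCategory.homologyFunctor (EtCoh.Ab Y') i).map (EtBC.bcMap f g f' g' w adj K)) := by
  obtain ⟨e⟩ := e
  exact (BcMap.homology_isIso_iff f g f' g' w adj K i).2
    ((BcRange.natTrans_congr (bcEt w) ((MorphismProperty.isomorphisms _).inverseImage
    (DerivedCategory.homologyFunctor (EtCoh.Ab Y') i)) e).1
      (BcRange.isIso_homology_bcD (BCCalc.bcNat w) T a n h1 h2 h3 i hi))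

theorem mono_bcMap_range_of_complex (adj : EtBC.pullD g ⊣ DCoh.RpushEt Y' g) (K : DCoh.DEt X)
    (T : CochainComplex (EtCoh.Ab X) ℤ) (a : ℤ) [T.IsStrictlyGE a]
    (e : Nonempty (DerivedCategory.Q.obj T ≅ K)) (n : ℕ)
    (h1 : ∀ i, IsAcyc (EtCoh.push f) (T.X i))
    (h2 : ∀ (i : ℤ) (q : ℕ), 1 ≤ q → q ≤ n → IsZero ((EtCoh.Rpush f' q).obj ((EtCoh.pull g').obj (T.X i))))
    (h3 : ∀ i, IsIso (EtCoh.baseChange0 f g f' g' w (T.X i))) (i : ℤ) (hi : i ≤ a + n + 1) :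
    Mono ((DerivedCategory.homologyFunctor (EtCoh.Ab Y') i).map (EtBC.bcMap f g f' g' w adj K)) := by
  obtain ⟨e⟩ := e
  exact (BcMap.homology_mono_iff f g f' g' w adj K i).2
    ((BcRange.natTrans_congr (bcEt w) ((MorphismProperty.monomorphisms _).inverseImage
    (DerivedCategory.homologyFunctor (EtCoh.Ab Y') i)) e).1
      (BcRange.mono_homology_bcD (BCCalc.bcNat w) T a n h1 h2 h3 i hi))

/-- (D2) -/
theorem bcMap_range [QuasiCompact f] [QuasiSeparated f] {N : Set ℕ} (hN : IsOrd N) (n : ℕ)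
    (h0 : ∀ J : EtCoh.Ab X, Injective J → IsIso (EtCoh.baseChange0 f g f' g' w (torsN N J)))
    (hv : ∀ J : EtCoh.Ab X, Injective J → ∀ q : ℕ, 1 ≤ q → q ≤ n →
      IsZero ((EtCoh.Rpush f' q).obj ((EtCoh.pull g').obj (torsN N J))))
    (adj : EtBC.pullD g ⊣ DCoh.RpushEt Y' g) (F : EtCoh.Ab X) (hF : TorsionN N F) :
    (∀ q : ℤ, q ≤ n → IsIso ((DerivedCategory.homologyFunctor (EtCoh.Ab Y') q).map
      (EtBC.bcMap f g f' g' w adj (EtBC.single X F)))) ∧
    Mono ((DerivedCategory.homologyFunctor (EtCoh.Ab Y') ((n : ℤ) + 1)).map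
      (EtBC.bcMap f g f' g' w adj (EtBC.single X F))) := by
  obtain ⟨T, hT, e, hT'⟩ := exists_resolution hN F hF
  have h1 : ∀ i, IsAcyc (EtCoh.push f) (T.X i) := fun i => (hT' i).isAcyc hN f
  have h2 : ∀ (i : ℤ) (q : ℕ), 1 ≤ q → q ≤ n →
      IsZero ((EtCoh.Rpush f' q).obj ((EtCoh.pull g').obj (T.X i))) := by
    intro i q hq hq'
    obtain ⟨J, hJ, ⟨i1⟩⟩ := hT' i
    exact (hv J hJ q hq hq').of_iso ((EtCoh.Rpush f' q).mapIso ((EtCoh.pull g').mapIso i1))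
  have h3 : ∀ i, IsIso (EtCoh.baseChange0 f g f' g' w (T.X i)) := by
    intro i
    obtain ⟨J, hJ, ⟨i1⟩⟩ := hT' i
    exact BCCalc.isIso_baseChange0_of_iso w i1.symm (h0 J hJ)
  exact ⟨fun q hq => isIso_bcMap_range_of_complex f g f' g' w adj _ T 0 e n h1 h2 h3 q (by simpa using hq),
    mono_bcMap_range_of_complex f g f' g' w adj _ T 0 e n h1 h2 h3 _ (by simp)⟩

/-- (D1), degree zero. -/
theorem isIso_baseChange0_of_bcMap (adj : EtBC.pullD g ⊣ DCoh.RpushEt Y' g) (M : EtCoh.Ab X)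
    (hM : IsAcyc (EtCoh.push f) M) (h : IsIso ((DerivedCategory.homologyFunctor (EtCoh.Ab Y') 0).map
      (EtBC.bcMap f g f' g' w adj (EtBC.single X M)))) :
    IsIso (EtCoh.baseChange0 f g f' g' w M) :=
  BcRange.isIso_bc_of_isIso_homology_bcD (BCCalc.bcNat w) M hM
    ((BcMap.homology_isIso_iff f g f' g' w adj _ 0).1 h)

/-- (D1), positive degrees. -/
theorem isZero_Rpush_of_bcMap (adj : EtBC.pullD g ⊣ DCoh.RpushEt Y' g) (M : EtCoh.Ab X)
    (hM : IsAcyc (EtCoh.push f) M) (q : ℕ) (hq : 1 ≤ q)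
    (h : IsIso ((DerivedCategory.homologyFunctor (EtCoh.Ab Y') (q : ℤ)).map
      (EtBC.bcMap f g f' g' w adj (EtBC.single X M)))) :
    IsZero ((EtCoh.Rpush f' q).obj ((EtCoh.pull g').obj M)) :=
  BcRange.isAcycN_of_isIso_homology_bcD (BCCalc.bcNat w) M hM q hq
    ((BcMap.homology_isIso_iff f g f' g' w adj _ q).1 h)

end Groth.Agent.Etbc.H185.BcRangeEt
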