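import Mathlib.CategoryTheory.Abelian.Injective.Resolution
import Mathlib.CategoryTheory.Abelian.Injective.Extend
import Mathlib.Algebra.Homology.DerivedCategory.Basic

/-!
# Resolutions by objects of a class

If every object `F` of the class `P` admits a monomorphism `F ⟶ J` with `Q J` and cokernel in `P`,
then every object of `P` has a resolution (an `ℕ`- resp. `ℤ`-indexed cochain complex, strictly
concentrated in nonnegative degrees) by objects of the class `Q`:
`exists_resolution_nat`, `exists_resolution_int`, `exists_iso_Q`.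
-/

set_option autoImplicit false
universe w v u
open CategoryTheory CategoryTheory.Limits

noncomputable section
namespace Groth.Agent.Etbc.H185.ClassRes

variable {A : Type u} [Category.{v} A] [Abelian A]

/-- Splicing data: short exact sequences `Z n ⟶ J n ⟶ Z (n + 1)`. -/
structure Splice (A : Type u) [Category.{v} A] [Abelian A] where
  /-- the cosyzygies -/
  Z : ℕ → A
  /-- the terms -/
  J : ℕ → A
  /-- the embeddings -/
  i : ∀ n, Z n ⟶ J n
  /-- the projections -/
  p : ∀ n, J n ⟶ Z (n + 1)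
  w : ∀ n, i n ≫ p n = 0
  exact : ∀ n, (ShortComplex.mk (i n) (p n) (w n)).ShortExact

namespace Splice

variable (S : Splice A)

/-- The differentials. -/
def d (n : ℕ) : S.J n ⟶ S.J (n + 1) := S.p n ≫ S.i (n + 1)

lemma i_d (n : ℕ) : S.i n ≫ S.d n = 0 := by
  rw [d, reassoc_of% (S.w n), zero_comp]

lemma d_d (n : ℕ) : S.d n ≫ S.d (n + 1) = 0 := by
  rw [d, Category.assoc, i_d, comp_zero]

instance (n : ℕ) : Mono (S.i n) := (S.exact n).mono_f

instance (n : ℕ) : Epi (S.p n) := (S.exact n).epi_g

lemma exact_i_d (n : ℕ) : (ShortComplex.mk (S.i n) (S.d n) (S.i_d n)).Exact := by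
  let S₁ := ShortComplex.mk (S.i n) (S.p n) (S.w n)
  let S₂ := ShortComplex.mk (S.i n) (S.d n) (S.i_d n)
  let φ : S₁ ⟶ S₂ :=
    { τ₁ := 𝟙 _
      τ₂ := 𝟙 _
      τ₃ := S.i (n + 1)
      comm₁₂ := (Category.id_comp _).trans (Category.comp_id _).symm
      comm₂₃ := Category.id_comp _ }
  have e1 : Epi φ.τ₁ := inferInstanceAs (Epi (𝟙 _))
  have e2 : IsIso φ.τ₂ := inferInstanceAs (IsIso (𝟙 _))
  have e3 : Mono φ.τ₃ := inferInstanceAs (Mono (S.i (n + 1)))
  exact (ShortComplex.exact_iff_of_epi_of_isIso_of_mono φ).1 (S.exact n).exact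

lemma exact_d_d (n : ℕ) : (ShortComplex.mk (S.d n) (S.d (n + 1)) (S.d_d n)).Exact := by
  let S₁ := ShortComplex.mk (S.d n) (S.d (n + 1)) (S.d_d n)
  let S₂ := ShortComplex.mk (S.i (n + 1)) (S.d (n + 1)) (S.i_d (n + 1))
  let φ : S₁ ⟶ S₂ :=
    { τ₁ := S.p n
      τ₂ := 𝟙 _
      τ₃ := 𝟙 _
      comm₁₂ := (Category.comp_id _).symm
      comm₂₃ := (Category.id_comp _).trans (Category.comp_id _).symm }
  have e1 : Epi φ.τ₁ := inferInstanceAs (Epi (S.p n))
  have e2 : IsIso φ.τ₂ := inferInstanceAs (IsIso (𝟙 _))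
  have e3 : Mono φ.τ₃ := inferInstanceAs (Mono (𝟙 _))
  exact (ShortComplex.exact_iff_of_epi_of_isIso_of_mono φ).2 (S.exact_i_d (n + 1))

/-- The spliced complex. -/
def cx : CochainComplex A ℕ := CochainComplex.of S.J S.d S.d_d

lemma cx_d (n : ℕ) : S.cx.d n (n + 1) = S.d n := CochainComplex.of_d S.J S.d n

lemma cx_exactAt_succ (n : ℕ) : S.cx.ExactAt (n + 1) := by
  rw [HomologicalComplex.exactAt_iff' _ n (n + 1) (n + 1 + 1) (by simp) (by simp)]
  refine (ShortComplex.exact_iff_of_iso ?_).2 (S.exact_d_d n)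
  refine ShortComplex.isoMk (Iso.refl _) (Iso.refl _) (Iso.refl _) ?_ ?_
  · refine (Category.id_comp _).trans (Eq.trans ?_ (Category.comp_id _).symm)
    exact (S.cx_d n).symm
  · refine (Category.id_comp _).trans (Eq.trans ?_ (Category.comp_id _).symm)
    exact (S.cx_d (n + 1)).symm

/-- The augmentation. -/
def aug : (CochainComplex.single₀ A).obj (S.Z 0) ⟶ S.cx :=
  (CochainComplex.fromSingle₀Equiv _ _).symm ⟨S.i 0, by
    rw [S.cx_d 0]
    exact S.i_d 0⟩

lemma aug_f_zero : S.aug.f 0 = S.i 0 :=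
  CochainComplex.fromSingle₀Equiv_symm_apply_f_zero (C := S.cx) (X := S.Z 0) (S.i 0) _

instance quasiIso_aug : QuasiIso S.aug where
  quasiIsoAt n := by
    cases n with
    | zero =>
      rw [CochainComplex.quasiIsoAt₀_iff, ShortComplex.quasiIso_iff_of_zeros]
      · refine (ShortComplex.exact_and_mono_f_iff_of_iso ?_).2
          ⟨S.exact_i_d 0, by dsimp; infer_instance⟩
        refine ShortComplex.isoMk (Iso.refl _) (Iso.refl _) (Iso.refl _) ?_ ?_
        · refine (Category.id_comp _).trans (Eq.trans ?_ (Category.comp_id _).symm)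
          exact S.aug_f_zero.symm
        · refine (Category.id_comp _).trans (Eq.trans ?_ (Category.comp_id _).symm)
          exact (S.cx_d 0).symm
      all_goals rfl
    | succ n =>
      rw [quasiIsoAt_iff_exactAt]
      · exact S.cx_exactAt_succ n
      · apply CochainComplex.exactAt_succ_single_obj

end Splice

section exists_splice

variable {P Q : A → Prop}

/-- One step of a resolution. -/
structure Step (P Q : A → Prop) (F : A) where
  /-- the target of the embedding -/
  J : A
  /-- the embedding -/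
  i : F ⟶ J
  mono : Mono i
  hQ : Q J
  hP : P (cokernel i)

variable (h : ∀ F, P F → ∃ (J : A) (i : F ⟶ J), Mono i ∧ Q J ∧ P (cokernel i))

/-- A chosen step. -/
def step (F : {F : A // P F}) : Step P Q F.1 :=
  Classical.choice (by
    obtain ⟨J, i, h1, h2, h3⟩ := h F.1 F.2
    exact ⟨⟨J, i, h1, h2, h3⟩⟩)

/-- The sequence of cosyzygies. -/
def syz (F : {F : A // P F}) : ℕ → {F : A // P F}
  | 0 => F
  | n + 1 => ⟨cokernel (step h (syz F n)).i, (step h (syz F n)).hP⟩

/-- The splicing data. -/
def splice (F : {F : A // P F}) : Splice A where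
  Z n := (syz h F n).1
  J n := (step h (syz h F n)).J
  i n := (step h (syz h F n)).i
  p n := cokernel.π (step h (syz h F n)).i
  w _ := cokernel.condition _
  exact n :=
    { exact := ShortComplex.exact_cokernel _
      mono_f := (step h (syz h F n)).mono
      epi_g := inferInstanceAs (Epi (cokernel.π (step h (syz h F n)).i)) }

include h in
theorem exists_resolution_nat (F : A) (hF : P F) :
    ∃ (J : CochainComplex A ℕ) (f : (CochainComplex.single₀ A).obj F ⟶ J), QuasiIso f ∧
      ∀ n, Q (J.X n) :=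
  ⟨(splice h ⟨F, hF⟩).cx, (splice h ⟨F, hF⟩).aug, (splice h ⟨F, hF⟩).quasiIso_aug,
    fun n => (step h (syz h ⟨F, hF⟩ n)).hQ⟩

set_option backward.defeqAttrib.useBackward true in
set_option backward.isDefEq.respectTransparency false in
include h in
theorem exists_resolution_int (F : A) (hF : P F) :
    ∃ (J : CochainComplex A ℤ) (_ : J.IsStrictlyGE 0)
      (f : (CochainComplex.singleFunctor A 0).obj F ⟶ J), QuasiIso f ∧
      ∀ n, IsZero (J.X n) ∨ ∃ M, Q M ∧ Nonempty (J.X n ≅ M) := by
  obtain ⟨J, f, hf, hQ⟩ := exists_resolution_nat h F hF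
  have h1 : QuasiIso (HomologicalComplex.extendMap f ComplexShape.embeddingUpNat) :=
    (HomologicalComplex.quasiIso_extendMap_iff f ComplexShape.embeddingUpNat).2 hf
  have h2 : QuasiIso (HomologicalComplex.extendSingleIso ComplexShape.embeddingUpNat F 0 0
    (by simp)).inv := inferInstance
  refine ⟨J.extend ComplexShape.embeddingUpNat, inferInstance,
    (HomologicalComplex.extendSingleIso ComplexShape.embeddingUpNat F 0 0 (by simp)).inv ≫
    HomologicalComplex.extendMap f ComplexShape.embeddingUpNat, ?_, fun n => ?_⟩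
  · exact quasiIso_comp _ _
  · by_cases hn : 0 ≤ n
    · obtain ⟨k, rfl⟩ := Int.eq_ofNat_of_zero_le hn
      exact Or.inr ⟨J.X k, hQ k, ⟨HomologicalComplex.extendXIso _ ComplexShape.embeddingUpNat rfl⟩⟩
    · exact Or.inl (CochainComplex.isZero_of_isStrictlyGE _ 0 _ (by lia))

include h in
/-- In the derived category, a single object of the class `P` is represented by a complex with terms
in a class `Q` containing the zero objects and closed under isomorphisms. -/
theorem exists_iso_Q [HasDerivedCategory.{w} A] (hQ0 : ∀ F : A, IsZero F → Q F)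
    (hQi : ∀ {F G : A}, (F ≅ G) → Q F → Q G) (F : A) (hF : P F) :
    ∃ (J : CochainComplex A ℤ) (_ : J.IsStrictlyGE 0),
      Nonempty (DerivedCategory.Q.obj J ≅ (DerivedCategory.singleFunctor A 0).obj F) ∧
      ∀ n, Q (J.X n) := by
  obtain ⟨J, hJ, f, hf, hQ⟩ := exists_resolution_int h F hF
  refine ⟨J, hJ, ⟨(asIso (DerivedCategory.Q.map f)).symm ≪≫
    ((DerivedCategory.singleFunctorIsoCompQ A 0).app F).symm⟩, fun n => ?_⟩
  rcases hQ n with h0 | ⟨M, hM, ⟨e⟩⟩
  · exact hQ0 _ h0
  · exact hQi e.symm hM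

end exists_splice

end Groth.Agent.Etbc.H185.ClassRes
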