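import Groth.Agent.Etrest.RDer3

/-!
# `G T ⟶ TR G (Q T)` in a range of degrees

`G : A ⥤ B` left exact, `T` a complex strictly `≥ a` such that `R^q G (T^k) = 0` for `1 ≤ q ≤ n` and all `k`.
Then `H^i(G T) ⟶ H^i(TR G (Q T))` is an isomorphism for `i ≤ a + n` and a monomorphism for `i = a + n + 1`
(`isIso_homology_unitQ`, `mono_homology_unitQ`).
-/

set_option autoImplicit false
universe w w' v v' u u'
open CategoryTheory CategoryTheory.Limits

set_option linter.unusedSectionVars false

noncomputable section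
namespace Groth.Agent.Etbc.H185.PartRange
open Groth.Agent.Etrest Groth.Agent.Etrest.RDer1 Groth.Agent.Etrest.RDer2 Groth.Agent.Etrest.RDer3

variable {A : Type u} [Category.{v} A] [Abelian A] [EnoughInjectives A]
  {B : Type u'} [Category.{v'} B] [Abelian B] (G : A ⥤ B) [G.Additive]

/-- `R^q G X = 0` for `1 ≤ q ≤ n`. -/
def IsAcycN (n : ℕ) (X : A) : Prop := ∀ q : ℕ, 1 ≤ q → q ≤ n → IsZero ((G.rightDerived q).obj X)

theorem isAcycN_of_isAcyc {X : A} (h : IsAcyc G X) (n : ℕ) : IsAcycN G n X := by
  intro q hq _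
  obtain ⟨m, rfl⟩ := Nat.exists_eq_add_of_le' hq
  exact h m

theorem isAcycN_of_iso {n : ℕ} {X Y : A} (e : X ≅ Y) (h : IsAcycN G n X) : IsAcycN G n Y :=
  fun q h1 h2 => (h q h1 h2).of_iso ((G.rightDerived q).mapIso e.symm)

theorem isAcycN_of_isZero {n : ℕ} {X : A} (h : IsZero X) : IsAcycN G n X :=
  fun _ _ _ => Functor.map_isZero _ h

theorem isAcycN_biprod {n : ℕ} {X Y : A} (h : IsAcycN G n X) (h' : IsAcycN G n Y) :
    IsAcycN G n (X ⊞ Y) := by
  intro q h1 h2
  have := (G.rightDerived q).preservesFiniteBiproductsOfAdditive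
  have := preservesBinaryBiproducts_of_preservesBiproducts (G.rightDerived q)
  refine IsZero.of_iso ?_ ((G.rightDerived q).mapBiprod X Y)
  exact (biprod_isZero_iff _ _).2 ⟨h q h1 h2, h' q h1 h2⟩

/-- If `R^1 G X₁ = 0` then `G` (left exact) sends the sequence to a short exact sequence. -/
theorem epi_map [PreservesFiniteLimits G] {S : ShortComplex A} (hS : S.ShortExact)
    (h1 : IsZero ((G.rightDerived 1).obj S.X₁)) : Epi (G.map S.g) := by
  have h := (exact₃ G hS 0).epi_f (h1.eq_of_tgt _ _)
  have e := G.rightDerivedZeroIsoSelf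
  have : Epi ((G.rightDerived 0).map S.g) := h
  have h2 : G.map S.g = e.inv.app _ ≫ (G.rightDerived 0).map S.g ≫ e.hom.app _ := by
    rw [e.hom.naturality]; simp
  rw [h2]
  infer_instance

section complex

variable (K : CochainComplex A ℤ)

theorem isZero_cycles (a : ℤ) [K.IsStrictlyGE a] (hK : K.Acyclic) (i : ℤ) (hi : i ≤ a) :
    IsZero (K.cycles i) := by
  have hS := cyc_shortExact K (i - 1) i (by simp) (hK i)
  have h1 : IsZero (K.X (i - 1)) := K.isZero_of_isStrictlyGE a (i - 1) (by lia)
  have : Epi (cyc K (i - 1) i).g := hS.epi_g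
  exact @IsZero.of_epi _ _ _ _ _ (cyc K (i - 1) i).g this h1

theorem isZero_cycles_rightDerived (a : ℤ) [K.IsStrictlyGE a] (hK : K.Acyclic) (n : ℕ)
    (h : ∀ i, IsAcycN G n (K.X i)) (j : ℕ) (q : ℕ) (hq : 1 ≤ q) (hj : q + j ≤ n + 1) :
    IsZero ((G.rightDerived q).obj (K.cycles (a + j))) := by
  induction j generalizing q with
  | zero => exact Functor.map_isZero _ (isZero_cycles K a hK _ (by simp))
  | succ j ih =>
    have hS := cyc_shortExact K (a + j) (a + (j + 1 : ℕ)) (by push_cast; ring) (hK _)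
    exact isZero_X₃ G hS q (h _ q hq (by lia)) (ih (q + 1) (by lia) (by lia))

/-- Exactness of `G K` at `i` from the surjectivity of `G (K^{i-1}) ⟶ G (Z^i)`. -/
theorem exactAt_map [PreservesFiniteLimits G] (hK : K.Acyclic) (i : ℤ)
    (hepi : Epi (G.map (K.toCycles (i - 1) i))) :
    ((G.mapHomologicalComplex (.up ℤ)).obj K).ExactAt i := by
  rw [HomologicalComplex.exactAt_iff' _ (i - 1) i (i + 1) (by simp) (by simp)]
  have hS' := cyc_shortExact K i (i + 1) rfl (hK (i + 1))
  have hmono' : Mono (cyc K i (i + 1)).f := hS'.mono_f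
  have hex : ((cyc K i (i + 1)).map G).Exact := hS'.exact.map_of_mono_of_preservesKernel G inferInstance inferInstance
  have hmono : Mono (G.map (K.iCycles (i + 1))) := inferInstance
  let φ : ((G.mapHomologicalComplex (.up ℤ)).obj K).sc' (i - 1) i (i + 1) ⟶ ShortComplex.mk
      (G.map (K.iCycles i)) (G.map (K.d i (i + 1))) (by rw [← G.map_comp]; simp) :=
    { τ₁ := G.map (K.toCycles (i - 1) i)
      τ₂ := 𝟙 _
      τ₃ := 𝟙 _
      comm₁₂ := by
        change G.map (K.toCycles (i - 1) i) ≫ G.map (K.iCycles i) = G.map (K.d (i - 1) i) ≫ 𝟙 _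
        rw [← G.map_comp]; simp
      comm₂₃ := (Category.id_comp _).trans (Category.comp_id _).symm }
  have e1 : Epi φ.τ₁ := hepi
  have e2 : IsIso φ.τ₂ := inferInstanceAs (IsIso (𝟙 _))
  have e3 : Mono φ.τ₃ := inferInstanceAs (Mono (𝟙 _))
  rw [ShortComplex.exact_iff_of_epi_of_isIso_of_mono φ]
  let ψ : (cyc K i (i + 1)).map G ⟶ ShortComplex.mk
      (G.map (K.iCycles i)) (G.map (K.d i (i + 1))) (by rw [← G.map_comp]; simp) :=
    { τ₁ := 𝟙 _
      τ₂ := 𝟙 _
      τ₃ := G.map (K.iCycles (i + 1))
      comm₁₂ := (Category.id_comp _).trans (Category.comp_id _).symm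
      comm₂₃ := by
        change 𝟙 _ ≫ G.map (K.d i (i + 1)) = G.map (K.toCycles i (i + 1)) ≫ G.map (K.iCycles (i + 1))
        rw [← G.map_comp]; simp }
  have e1 : Epi ψ.τ₁ := inferInstanceAs (Epi (𝟙 _))
  have e2 : IsIso ψ.τ₂ := inferInstanceAs (IsIso (𝟙 _))
  have e3 : Mono ψ.τ₃ := hmono
  exact (ShortComplex.exact_iff_of_epi_of_isIso_of_mono ψ).1 hex

/-- Exactness of `G K` in a range, for `K` acyclic, strictly `≥ a`. -/
theorem exactAt_map_of_le [PreservesFiniteLimits G] (a : ℤ) [K.IsStrictlyGE a] (hK : K.Acyclic) (n : ℕ)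
    (h : ∀ i, IsAcycN G n (K.X i)) (i : ℤ) (hi : i ≤ a + n + 1) :
    ((G.mapHomologicalComplex (.up ℤ)).obj K).ExactAt i := by
  refine exactAt_map G K hK i ?_
  refine epi_map G (cyc_shortExact K (i - 1) i (by simp) (hK i)) ?_
  by_cases hia : i - 1 ≤ a
  · exact Functor.map_isZero _ (isZero_cycles K a hK _ hia)
  · obtain ⟨j, hj⟩ := Int.le.dest (le_of_lt (not_le.1 hia))
    have := isZero_cycles_rightDerived G K a hK n h j 1 le_rfl (by lia)
    rwa [hj] at this

end complex

section triangle

variable [HasDerivedCategory.{w'} B]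

/-- A morphism of complexes with mapping cone exact in degrees `≤ m`. -/
theorem mono_homology_Q {K L : CochainComplex B ℤ} (φ : K ⟶ L) (k : ℤ)
    (h : (CochainComplex.mappingCone φ).ExactAt (k - 1)) :
    Mono ((DerivedCategory.homologyFunctor B k).map (DerivedCategory.Q.map φ)) := by
  have hT := DerivedCategory.mappingCone_triangle_distinguished φ
  have h0 : IsZero ((DerivedCategory.homologyFunctor B (k - 1)).obj
      (DerivedCategory.Q.obj (CochainComplex.mappingCone φ))) :=
    ((HomologicalComplex.exactAt_iff_isZero_homology _ _).1 h).of_iso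
      ((DerivedCategory.homologyFunctorFactors B (k - 1)).app _)
  exact (DerivedCategory.HomologySequence.mono_homologyMap_mor₁_iff _ hT (k - 1) k (by lia)).2
    (h0.eq_of_src _ _)

theorem epi_homology_Q {K L : CochainComplex B ℤ} (φ : K ⟶ L) (k : ℤ)
    (h : (CochainComplex.mappingCone φ).ExactAt k) :
    Epi ((DerivedCategory.homologyFunctor B k).map (DerivedCategory.Q.map φ)) := by
  have hT := DerivedCategory.mappingCone_triangle_distinguished φ
  have h0 : IsZero ((DerivedCategory.homologyFunctor B k).obj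
      (DerivedCategory.Q.obj (CochainComplex.mappingCone φ))) :=
    ((HomologicalComplex.exactAt_iff_isZero_homology _ _).1 h).of_iso
      ((DerivedCategory.homologyFunctorFactors B k).app _)
  exact (DerivedCategory.HomologySequence.epi_homologyMap_mor₁_iff _ hT k).2
    (h0.eq_of_tgt _ _)

variable [HasDerivedCategory.{w} A] [HasKInj A] [PreservesFiniteLimits G]

variable (T : CochainComplex A ℤ) (a : ℤ) [T.IsStrictlyGE a] (n : ℕ)
  (hT : ∀ i, IsAcycN G n (T.X i))

include hT in
theorem exists_res : ∃ (I : CochainComplex A ℤ) (i : T ⟶ I), QuasiIso i ∧ I.IsKInjective ∧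
    ∀ k : ℤ, k ≤ a + n → (CochainComplex.mappingCone ((G.mapHomologicalComplex (.up ℤ)).map i)).ExactAt k := by
  obtain ⟨I, i, hi, hI, hIa, hIK⟩ := exists_injRes T a
  refine ⟨I, i, hi, hIK, fun k hk => ?_⟩
  have h1 : HomologicalComplex.Acyclic (CochainComplex.mappingCone i) :=
    (quasiIso_iff_acyclic i).1 inferInstance
  have h2 : (CochainComplex.mappingCone i).IsStrictlyGE (a - 1) :=
    CochainComplex.isStrictlyGE_mappingCone i a a _ (by simp) (by simp)
  have h3 := exactAt_map_of_le G (CochainComplex.mappingCone i) (a - 1) h1 n (fun j =>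
    isAcycN_of_iso G (HomologicalComplex.homotopyCofiber.XIsoBiprod i j (j + 1) rfl).symm
      (isAcycN_biprod G (hT _) (isAcycN_of_isAcyc G (isAcyc_of_injective G _) n))) k (by lia)
  exact h3.of_iso (CochainComplex.mappingCone.mapHomologicalComplexIso i G)

theorem unitQ_square {I : CochainComplex A ℤ} (i : T ⟶ I) (k : ℤ) :
    (DerivedCategory.homologyFunctor B k).map (DerivedCategory.Q.map
      ((G.mapHomologicalComplex (.up ℤ)).map i)) ≫
      (DerivedCategory.homologyFunctor B k).map ((unitQ G).app I) =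
    (DerivedCategory.homologyFunctor B k).map ((unitQ G).app T) ≫
      (DerivedCategory.homologyFunctor B k).map ((TR G).map (DerivedCategory.Q.map i)) := by
  rw [← Functor.map_comp, ← Functor.map_comp]
  exact congrArg _ ((unitQ G).naturality i)

include hT in
theorem mono_homology_unitQ (k : ℤ) (hk : k ≤ a + n + 1) :
    Mono ((DerivedCategory.homologyFunctor B k).map ((unitQ G).app T)) := by
  obtain ⟨I, i, hi, hIK, hex⟩ := exists_res G T a n hT
  have h1 := mono_homology_Q ((G.mapHomologicalComplex (.up ℤ)).map i) k (hex (k - 1) (by lia))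
  have h2 := isIso_unitQ_of_isKInjective G I hIK
  have h3 := unitQ_square G T i k
  have h4 : Mono ((DerivedCategory.homologyFunctor B k).map ((unitQ G).app T) ≫
      (DerivedCategory.homologyFunctor B k).map ((TR G).map (DerivedCategory.Q.map i))) := by
    rw [← h3]
    infer_instance
  exact mono_of_mono _ ((DerivedCategory.homologyFunctor B k).map ((TR G).map (DerivedCategory.Q.map i)))

include hT in
theorem isIso_homology_unitQ (k : ℤ) (hk : k ≤ a + n) :
    IsIso ((DerivedCategory.homologyFunctor B k).map ((unitQ G).app T)) := by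
  obtain ⟨I, i, hi, hIK, hex⟩ := exists_res G T a n hT
  have h1 := mono_homology_Q ((G.mapHomologicalComplex (.up ℤ)).map i) k (hex (k - 1) (by lia))
  have h1' := epi_homology_Q ((G.mapHomologicalComplex (.up ℤ)).map i) k (hex k (by lia))
  have h1'' := isIso_of_mono_of_epi ((DerivedCategory.homologyFunctor B k).map (DerivedCategory.Q.map
      ((G.mapHomologicalComplex (.up ℤ)).map i)))
  have h2 := isIso_unitQ_of_isKInjective G I hIK
  have h3 := unitQ_square G T i k
  have h4 : IsIso ((DerivedCategory.homologyFunctor B k).map ((unitQ G).app T) ≫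
      (DerivedCategory.homologyFunctor B k).map ((TR G).map (DerivedCategory.Q.map i))) := by
    rw [← h3]
    infer_instance
  exact IsIso.of_isIso_comp_right _
    ((DerivedCategory.homologyFunctor B k).map ((TR G).map (DerivedCategory.Q.map i)))

end triangle

end Groth.Agent.Etbc.H185.PartRange
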